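import Mathlib

set_option autoImplicit false

namespace Cfsg.Agent.Lib.Helper29

variable {W : Type*} [Group W]

/-- Word length of `w` with respect to a set `S` (junk value `0` outside the monoid generated by `S`). -/
noncomputable def wlen (S : Set W) (w : W) : ℕ :=
  sInf {k | ∃ l : List W, (∀ s ∈ l, s ∈ S) ∧ l.length = k ∧ l.prod = w}

/-- `S` is a generating set of elements of square one. -/
structure InvGen (S : Set W) : Prop where
  sq : ∀ s ∈ S, s * s = 1
  gen : Subgroup.closure S = ⊤

theorem inv_eq_of_sq {s : W} (h : s * s = 1) : s⁻¹ = s := inv_eq_of_mul_eq_one_left h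

theorem word_prod_inv {J : Set W} (hJ : ∀ s ∈ J, s * s = 1) (l : List W) (hl : ∀ s ∈ l, s ∈ J) :
    l.reverse.prod = l.prod⁻¹ := by
  rw [List.prod_inv_reverse]
  congr 1
  have : l.map (fun x => x⁻¹) = l.map id :=
    List.map_congr_left (fun s hs => inv_eq_of_sq (hJ s (hl s hs)))
  rw [this, List.map_id]

theorem mem_closure_iff_word {J : Set W} (hJ : ∀ s ∈ J, s * s = 1) (w : W) :
    w ∈ Subgroup.closure J ↔ ∃ l : List W, (∀ s ∈ l, s ∈ J) ∧ l.prod = w := by
  constructor
  · intro hw
    induction hw using Subgroup.closure_induction with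
    | mem x hx => exact ⟨[x], by simpa using hx, by simp⟩
    | one => exact ⟨[], by simp, by simp⟩
    | mul x y _ _ hx hy =>
      obtain ⟨l, hl, rfl⟩ := hx
      obtain ⟨l', hl', rfl⟩ := hy
      refine ⟨l ++ l', ?_, by simp⟩
      intro s hs
      rcases List.mem_append.1 hs with h | h
      · exact hl s h
      · exact hl' s h
    | inv x _ hx =>
      obtain ⟨l, hl, rfl⟩ := hx
      exact ⟨l.reverse, fun s hs => hl s (List.mem_reverse.1 hs), word_prod_inv hJ l hl⟩
  · rintro ⟨l, hl, rfl⟩
    exact Subgroup.list_prod_mem _ (fun s hs => Subgroup.subset_closure (hl s hs))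

namespace InvGen

variable {S : Set W} (h : InvGen S)
include h

theorem exists_word (w : W) : ∃ l : List W, (∀ s ∈ l, s ∈ S) ∧ l.prod = w :=
  (mem_closure_iff_word h.sq w).1 (by rw [h.gen]; trivial)

theorem exists_reduced (w : W) :
    ∃ l : List W, (∀ s ∈ l, s ∈ S) ∧ l.length = wlen S w ∧ l.prod = w := by
  have hne : {k | ∃ l : List W, (∀ s ∈ l, s ∈ S) ∧ l.length = k ∧ l.prod = w}.Nonempty := by
    obtain ⟨l, hl, hw⟩ := h.exists_word w
    exact ⟨l.length, l, hl, rfl, hw⟩
  exact Nat.sInf_mem hne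

end InvGen

theorem wlen_le {S : Set W} (l : List W) (hl : ∀ s ∈ l, s ∈ S) : wlen S l.prod ≤ l.length :=
  Nat.sInf_le ⟨l, hl, rfl, rfl⟩

theorem wlen_one (S : Set W) : wlen S (1 : W) = 0 :=
  Nat.le_zero.1 (wlen_le (S := S) [] (by simp))

namespace InvGen

variable {S : Set W} (h : InvGen S)
include h

theorem eq_one_of_wlen {w : W} (hw : wlen S w = 0) : w = 1 := by
  obtain ⟨l, _, hlen, rfl⟩ := h.exists_reduced w
  rw [hw] at hlen
  rw [List.length_eq_zero_iff.1 hlen]; rfl

theorem wlen_mul_left_le {s : W} (hs : s ∈ S) (w : W) : wlen S (s * w) ≤ wlen S w + 1 := by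
  obtain ⟨l, hl, hlen, rfl⟩ := h.exists_reduced w
  have := wlen_le (S := S) (s :: l) (by
    intro x hx
    rcases List.mem_cons.1 hx with rfl | hx
    · exact hs
    · exact hl x hx)
  simpa [hlen] using this

theorem wlen_mul_right_le {s : W} (hs : s ∈ S) (w : W) : wlen S (w * s) ≤ wlen S w + 1 := by
  obtain ⟨l, hl, hlen, rfl⟩ := h.exists_reduced w
  have := wlen_le (S := S) (l ++ [s]) (by
    intro x hx
    rcases List.mem_append.1 hx with hx | hx
    · exact hl x hx
    · rw [List.mem_singleton.1 hx]; exact hs)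
  simpa [hlen] using this

theorem wlen_le_mul_left {s : W} (hs : s ∈ S) (w : W) : wlen S w ≤ wlen S (s * w) + 1 := by
  have := h.wlen_mul_left_le hs (s * w)
  rwa [← mul_assoc, h.sq s hs, one_mul] at this

theorem wlen_le_mul_right {s : W} (hs : s ∈ S) (w : W) : wlen S w ≤ wlen S (w * s) + 1 := by
  have := h.wlen_mul_right_le hs (w * s)
  rwa [mul_assoc, h.sq s hs, mul_one] at this

theorem exists_left_factor {w : W} (hw : wlen S w ≠ 0) :
    ∃ s ∈ S, ∃ w' : W, w = s * w' ∧ wlen S w = wlen S w' + 1 := by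
  obtain ⟨l, hl, hlen, hprod⟩ := h.exists_reduced w
  cases l with
  | nil => exact absurd hlen.symm hw
  | cons s l =>
    have hs : s ∈ S := hl s (by simp)
    refine ⟨s, hs, l.prod, by simpa using hprod.symm, ?_⟩
    have h1 : wlen S l.prod ≤ l.length := wlen_le l (fun x hx => hl x (by simp [hx]))
    have h2 := h.wlen_mul_left_le hs l.prod
    rw [List.prod_cons] at hprod
    rw [hprod] at h2
    simp only [List.length_cons] at hlen
    omega

theorem exists_right_factor {w : W} (hw : wlen S w ≠ 0) :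
    ∃ s ∈ S, ∃ w' : W, w = w' * s ∧ wlen S w = wlen S w' + 1 := by
  obtain ⟨l, hl, hlen, hprod⟩ := h.exists_reduced w
  rcases List.eq_nil_or_concat l with rfl | ⟨l', s, rfl⟩
  · exact absurd hlen.symm hw
  · rw [List.concat_eq_append] at hl hlen hprod
    have hs : s ∈ S := hl s (by simp)
    rw [List.prod_append, List.prod_singleton] at hprod
    refine ⟨s, hs, l'.prod, hprod.symm, ?_⟩
    have h1 : wlen S l'.prod ≤ l'.length := wlen_le l' (fun x hx => hl x (by simp [hx]))
    have h2 := h.wlen_mul_right_le hs l'.prod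
    rw [hprod] at h2
    simp only [List.length_append, List.length_singleton] at hlen
    omega

theorem wlen_gen {s : W} (hs : s ∈ S) (h1 : s ≠ 1) : wlen S s = 1 := by
  have h2 : wlen S s ≤ 1 := by simpa using wlen_le (S := S) [s] (by simpa using hs)
  have h3 : wlen S s ≠ 0 := fun h0 => h1 (h.eq_one_of_wlen h0)
  omega

theorem wlen_inv (w : W) : wlen S w⁻¹ = wlen S w := by
  have key : ∀ w : W, wlen S w⁻¹ ≤ wlen S w := by
    intro w
    obtain ⟨l, hl, hlen, rfl⟩ := h.exists_reduced w
    rw [← word_prod_inv h.sq l hl, ← hlen, ← List.length_reverse]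
    exact wlen_le _ (fun s hs => hl s (List.mem_reverse.1 hs))
  have := key w⁻¹
  rw [inv_inv] at this
  exact le_antisymm (key w) this

/-- tail of a reduced word is reduced -/
theorem reduced_tail {s : W} {l : List W} (hl : ∀ x ∈ s :: l, x ∈ S)
    (hred : (s :: l).length = wlen S (s :: l).prod) : l.length = wlen S l.prod := by
  have hs : s ∈ S := hl s (by simp)
  have h1 : wlen S l.prod ≤ l.length := wlen_le l (fun x hx => hl x (by simp [hx]))
  have h2 := h.wlen_mul_left_le hs l.prod
  simp only [List.length_cons, List.prod_cons] at hred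
  omega

end InvGen

/-- Generating involutions satisfying the parity and the folding condition. -/
structure Fold (S : Set W) : Prop extends InvGen S where
  ne : ∀ s ∈ S, ∀ w, wlen S (s * w) ≠ wlen S w
  fold : ∀ s ∈ S, ∀ s' ∈ S, ∀ w, wlen S w < wlen S (s * w) →
    wlen S (s * w * s') < wlen S (w * s') → s * w = w * s'

namespace Fold

variable {S : Set W} (h : Fold S)
include h

/-- The exchange condition (for arbitrary words). -/
theorem exchange {s : W} (hs : s ∈ S) (l : List W) (hl : ∀ x ∈ l, x ∈ S)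
    (hlt : wlen S (s * l.prod) < wlen S l.prod) :
    ∃ i < l.length, s * l.prod = (l.eraseIdx i).prod := by
  induction l using List.reverseRecOn with
  | nil => simp [wlen_one] at hlt
  | append_singleton l' s' ih =>
    have hs' : s' ∈ S := hl s' (by simp)
    have hl' : ∀ x ∈ l', x ∈ S := fun x hx => hl x (by simp [hx])
    rw [List.prod_append, List.prod_singleton] at hlt ⊢
    rcases lt_or_gt_of_ne (h.ne s hs l'.prod) with hc | hc
    · obtain ⟨i, hi, hprod⟩ := ih hl' hc
      refine ⟨i, by simp; omega, ?_⟩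
      rw [List.eraseIdx_append_of_lt_length hi, List.prod_append, List.prod_singleton, ← hprod,
        mul_assoc]
    · have hf := h.fold s hs s' hs' l'.prod hc (by rwa [mul_assoc])
      refine ⟨l'.length, by simp, ?_⟩
      rw [List.eraseIdx_append_of_length_le le_rfl, ← hf, ← mul_assoc, h.sq s hs, one_mul]
      simp

/-- Every word in `J ⊆ S` can be replaced by a reduced word in `J`. -/
theorem exists_reduced_in {J : Set W} (hJ : J ⊆ S) (l : List W) (hl : ∀ x ∈ l, x ∈ J) :
    ∃ l' : List W, (∀ x ∈ l', x ∈ J) ∧ l'.prod = l.prod ∧ l'.length = wlen S l.prod := by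
  induction l with
  | nil => exact ⟨[], by simp, rfl, by simp [wlen_one]⟩
  | cons s l ih =>
    have hs : s ∈ J := hl s (by simp)
    obtain ⟨l', hl', hprod, hlen⟩ := ih (fun x hx => hl x (by simp [hx]))
    rw [List.prod_cons, ← hprod]
    rw [← hprod] at hlen
    rcases lt_or_gt_of_ne (h.ne s (hJ hs) l'.prod) with hc | hc
    · obtain ⟨i, hi, he⟩ := h.exchange (hJ hs) l' (fun x hx => hJ (hl' x hx)) hc
      refine ⟨l'.eraseIdx i, fun x hx => hl' x (List.mem_of_mem_eraseIdx hx), he.symm, ?_⟩
      have h1 := h.toInvGen.wlen_le_mul_left (hJ hs) l'.prod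
      rw [List.length_eraseIdx_of_lt hi]
      omega
    · refine ⟨s :: l', ?_, by simp, ?_⟩
      · intro x hx
        rcases List.mem_cons.1 hx with rfl | hx
        · exact hs
        · exact hl' x hx
      · have h1 := h.toInvGen.wlen_mul_left_le (hJ hs) l'.prod
        simp only [List.length_cons]
        omega

/-- A generator lying in the subgroup generated by `J ⊆ S` lies in `J`. -/
theorem mem_of_mem_closure {J : Set W} (hJ : J ⊆ S) {s : W} (hs : s ∈ S) (h1 : s ≠ 1)
    (hmem : s ∈ Subgroup.closure J) : s ∈ J := by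
  obtain ⟨l, hl, hprod⟩ := (mem_closure_iff_word (fun x hx => h.sq x (hJ hx)) s).1 hmem
  obtain ⟨l', hl', hprod', hlen⟩ := h.exists_reduced_in hJ l hl
  rw [hprod, h.toInvGen.wlen_gen hs h1] at hlen
  obtain ⟨a, rfl⟩ := List.length_eq_one_iff.1 hlen
  rw [hprod] at hprod'
  simp only [List.prod_singleton] at hprod'
  rw [← hprod']
  exact hl' a (by simp)

end Fold

end Cfsg.Agent.Lib.Helper29
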