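import Cfsg.Prelude.Def_LieExceptional
import Cfsg.Agent.Lib.Helper29.WordLen

set_option autoImplicit false

namespace Cfsg.Agent.Lib.Helper29

open scoped Pointwise
open DoubleCoset

universe u v

variable {G : Type u} [Group G] (P : Cfsg.BNPair G) {W : Type v} [Group W] (π : P.N →* W)

/-- `π : N → W` realises the Weyl group `N / (B ⊓ N)`. -/
structure IsWeyl : Prop where
  surj : Function.Surjective π
  ker : ∀ n : P.N, π n = 1 ↔ (n : G) ∈ P.B

/-- Bruhat cell `B w B`. -/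
def cell (w : W) : Set G := {g | ∃ n : P.N, π n = w ∧ g ∈ doubleCoset (n : G) (P.B : Set G) P.B}

/-- image in `W` of a set of elements of `N`. -/
def gensOf (J : Set G) : Set W := {w | ∃ n : P.N, (n : G) ∈ J ∧ π n = w}

/-- `B`-biinvariant sets. -/
def BI (X : Set G) : Prop := ∀ b ∈ P.B, ∀ x ∈ X, ∀ b' ∈ P.B, b * x * b' ∈ X

theorem BI_dc (g : G) : BI P (doubleCoset g (P.B : Set G) P.B) := by
  intro b hb x hx b' hb'
  obtain ⟨c, hc, c', hc', rfl⟩ := mem_doubleCoset.1 hx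
  exact mem_doubleCoset.2 ⟨b * c, P.B.mul_mem hb hc, c' * b', P.B.mul_mem hc' hb', by group⟩

theorem dc_subset {X : Set G} (hX : BI P X) {g : G} (hg : g ∈ X) :
    doubleCoset g (P.B : Set G) P.B ⊆ X := by
  intro x hx
  obtain ⟨c, hc, c', hc', rfl⟩ := mem_doubleCoset.1 hx
  exact hX c hc g hg c' hc'

theorem BI_subgroup {H : Subgroup G} (hH : P.B ≤ H) : BI P (H : Set G) :=
  fun _ hb _ hx _ hb' => H.mul_mem (H.mul_mem (hH hb) hx) (hH hb')

theorem BI_mul {X Y : Set G} (hX : BI P X) (hY : BI P Y) : BI P (X * Y) := by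
  rintro b hb _ ⟨x, hx, y, hy, rfl⟩ b' hb'
  refine ⟨b * x * 1, hX b hb x hx 1 P.B.one_mem, 1 * y * b', hY 1 P.B.one_mem y hy b' hb', ?_⟩
  simp only; group

theorem BI_union {X Y : Set G} (hX : BI P X) (hY : BI P Y) : BI P (X ∪ Y) := by
  rintro b hb x (hx | hx) b' hb'
  · exact Or.inl (hX b hb x hx b' hb')
  · exact Or.inr (hY b hb x hx b' hb')

theorem BI_left {X : Set G} (hX : BI P X) {b x : G} (hb : b ∈ P.B) (hx : x ∈ X) : b * x ∈ X := by
  simpa using hX b hb x hx 1 P.B.one_mem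

theorem BI_right {X : Set G} (hX : BI P X) {b x : G} (hb : b ∈ P.B) (hx : x ∈ X) : x * b ∈ X := by
  simpa using hX 1 P.B.one_mem x hx b hb

theorem gensOf_mono {J K : Set G} (hJK : J ⊆ K) : gensOf P π J ⊆ gensOf P π K := by
  rintro w ⟨n, hn, rfl⟩
  exact ⟨n, hJK hn, rfl⟩

variable {P π}

namespace IsWeyl

variable (h : IsWeyl P π)
include h

theorem eq_iff (n n' : P.N) : π n = π n' ↔ (n : G)⁻¹ * n' ∈ P.B := by
  have := h.ker (n⁻¹ * n')
  rw [map_mul, map_inv, inv_mul_eq_one] at this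
  simpa using this

theorem cell_apply (n : P.N) : cell P π (π n) = doubleCoset (n : G) (P.B : Set G) P.B := by
  ext g
  constructor
  · rintro ⟨n', hn', hg⟩
    have h1 : (n' : G) ∈ doubleCoset (n : G) (P.B : Set G) P.B :=
      mem_doubleCoset.2 ⟨1, P.B.one_mem, _, (h.eq_iff n n').1 hn'.symm, by group⟩
    rw [doubleCoset_eq_of_mem h1] at hg
    exact hg
  · intro hg
    exact ⟨n, rfl, hg⟩

theorem mem_cell_apply (n : P.N) : (n : G) ∈ cell P π (π n) := by
  rw [h.cell_apply]; exact mem_doubleCoset_self _ _ _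

theorem BI_cell (w : W) : BI P (cell P π w) := by
  obtain ⟨n, rfl⟩ := h.surj w
  rw [h.cell_apply]; exact BI_dc P _

theorem cell_subset {X : Set G} (hX : BI P X) {w : W} {g : G} (hg : g ∈ cell P π w) (hgX : g ∈ X) :
    cell P π w ⊆ X := by
  obtain ⟨n, rfl⟩ := h.surj w
  rw [h.cell_apply] at hg ⊢
  rw [← doubleCoset_eq_of_mem hg]
  exact dc_subset P hX hgX

theorem cell_one : cell P π 1 = (P.B : Set G) := by
  rw [← map_one π, h.cell_apply]
  ext g
  constructor
  · intro hg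
    obtain ⟨c, hc, c', hc', rfl⟩ := mem_doubleCoset.1 hg
    simpa using P.B.mul_mem hc hc'
  · intro hg
    exact mem_doubleCoset.2 ⟨g, hg, 1, P.B.one_mem, by simp⟩

theorem cell_nonempty (w : W) : (cell P π w).Nonempty := by
  obtain ⟨n, rfl⟩ := h.surj w
  exact ⟨n, h.mem_cell_apply n⟩

theorem inv_mem_cell {w : W} {g : G} (hg : g ∈ cell P π w) : g⁻¹ ∈ cell P π w⁻¹ := by
  obtain ⟨n, rfl⟩ := h.surj w
  rw [h.cell_apply] at hg
  rw [← map_inv, h.cell_apply]
  obtain ⟨c, hc, c', hc', rfl⟩ := mem_doubleCoset.1 hg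
  exact mem_doubleCoset.2 ⟨c'⁻¹, P.B.inv_mem hc', c⁻¹, P.B.inv_mem hc, by simp [mul_assoc]⟩

theorem cell_eq_of_mem {w w' : W} {g : G} (hg : g ∈ cell P π w) (hg' : g ∈ cell P π w') :
    cell P π w = cell P π w' :=
  Set.Subset.antisymm (h.cell_subset (h.BI_cell w') hg hg') (h.cell_subset (h.BI_cell w) hg' hg)

theorem cell_mul_subset (w w' : W) : cell P π (w * w') ⊆ cell P π w * cell P π w' := by
  obtain ⟨n, rfl⟩ := h.surj w
  obtain ⟨n', rfl⟩ := h.surj w'
  rw [← map_mul]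
  refine h.cell_subset (BI_mul P (h.BI_cell _) (h.BI_cell _)) (h.mem_cell_apply _) ?_
  exact ⟨n, h.mem_cell_apply n, n', h.mem_cell_apply n', rfl⟩

theorem gen_mul_cell {s : W} (hs : s ∈ gensOf P π P.S) (w : W) :
    cell P π s * cell P π w ⊆ cell P π w ∪ cell P π (s * w) := by
  obtain ⟨ns, hns, rfl⟩ := hs
  obtain ⟨n, rfl⟩ := h.surj w
  rintro _ ⟨x, hx, y, hy, rfl⟩
  rw [h.cell_apply] at hx hy
  obtain ⟨b1, hb1, b2, hb2, rfl⟩ := mem_doubleCoset.1 hx
  obtain ⟨b3, hb3, b4, hb4, rfl⟩ := mem_doubleCoset.1 hy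
  have key := P.mul_mem_union ns hns n n.2 (b2 * b3) (P.B.mul_mem hb2 hb3)
  have hBI := BI_union P (h.BI_cell (π n)) (h.BI_cell (π ns * π n))
  have h2 : (ns : G) * (b2 * b3) * n ∈ cell P π (π n) ∪ cell P π (π ns * π n) := by
    rw [← map_mul, h.cell_apply, h.cell_apply]
    exact key.symm
  have h3 := hBI b1 hb1 _ h2 b4 hb4
  have h4 : b1 * ((ns : G) * (b2 * b3) * n) * b4 = b1 * ns * b2 * (b3 * n * b4) := by group
  simp only
  rw [← h4]; exact h3

theorem sq_gens {s : W} (hs : s ∈ gensOf P π P.S) : s * s = 1 := by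
  obtain ⟨ns, hns, rfl⟩ := hs
  rw [← map_mul, h.ker]
  exact P.sq_mem ns hns

theorem inv_gens {s : W} (hs : s ∈ gensOf P π P.S) : s⁻¹ = s := inv_eq_of_sq (h.sq_gens hs)

theorem cell_mul_gen {s : W} (hs : s ∈ gensOf P π P.S) (w : W) :
    cell P π w * cell P π s ⊆ cell P π w ∪ cell P π (w * s) := by
  rintro _ ⟨x, hx, y, hy, rfl⟩
  have hx' := h.inv_mem_cell hx
  have hy' := h.inv_mem_cell hy
  rw [h.inv_gens hs] at hy'
  have h1 : y⁻¹ * x⁻¹ ∈ cell P π w⁻¹ ∪ cell P π (s * w⁻¹) := h.gen_mul_cell hs _ ⟨_, hy', _, hx', rfl⟩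
  simp only
  rcases h1 with h1 | h1
  · left
    have := h.inv_mem_cell h1
    simpa using this
  · right
    have := h.inv_mem_cell h1
    simpa [h.inv_gens hs] using this

omit [Group W] h in
theorem exists_not_mem {s : G} (hs : s ∈ P.S) : ∃ b ∈ P.B, s * b * s ∉ P.B := by
  by_contra hcon
  push Not at hcon
  apply P.conj_ne s hs
  apply Set.Subset.antisymm
  · rintro _ ⟨b, hb, rfl⟩
    exact hcon b hb
  · intro b hb
    have hss := P.sq_mem s hs
    refine ⟨(s * s)⁻¹ * (s * b * s) * (s * s)⁻¹,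
      P.B.mul_mem (P.B.mul_mem (P.B.inv_mem hss) (hcon b hb)) (P.B.inv_mem hss), ?_⟩
    simp only; group

theorem gens_ne_one {s : W} (hs : s ∈ gensOf P π P.S) : s ≠ 1 := by
  obtain ⟨ns, hns, rfl⟩ := hs
  intro h1
  rw [h.ker] at h1
  obtain ⟨b, hb, hnb⟩ := exists_not_mem hns
  exact hnb (P.B.mul_mem (P.B.mul_mem h1 hb) h1)

theorem gen_sq_cell {s : W} (hs : s ∈ gensOf P π P.S) :
    cell P π s ⊆ cell P π s * cell P π s := by
  have hs' := hs
  obtain ⟨ns, hns, rfl⟩ := hs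
  obtain ⟨b, hb, hnb⟩ := exists_not_mem hns
  have h1 : (ns : G) * b * ns ∈ cell P π (π ns) * cell P π (π ns) :=
    ⟨ns * b, BI_right P (h.BI_cell _) hb (h.mem_cell_apply ns), ns, h.mem_cell_apply ns, rfl⟩
  have h2 := h.gen_mul_cell hs' _ h1
  rw [h.sq_gens hs', h.cell_one] at h2
  rcases h2 with h2 | h2
  · exact h.cell_subset (BI_mul P (h.BI_cell _) (h.BI_cell _)) h2 h1
  · exact absurd h2 hnb

theorem invGen : InvGen (gensOf P π P.S) where
  sq := fun s hs => h.sq_gens hs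
  gen := by
    have key : P.N ≤ ((Subgroup.closure (gensOf P π P.S)).comap π).map P.N.subtype := by
      calc P.N = Subgroup.closure P.S ⊔ (P.B ⊓ P.N) := P.closure_sup.symm
        _ ≤ _ := by
          rw [sup_le_iff, Subgroup.closure_le]
          constructor
          · intro s hs
            exact ⟨⟨s, P.subset hs⟩, Subgroup.subset_closure ⟨⟨s, P.subset hs⟩, hs, rfl⟩, rfl⟩
          · intro t ht
            refine ⟨⟨t, ht.2⟩, ?_, rfl⟩
            have h1 : π ⟨t, ht.2⟩ = 1 := (h.ker _).2 ht.1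
            exact Subgroup.mem_comap.2 (by rw [h1]; exact one_mem _)
    rw [eq_top_iff]
    intro w _
    obtain ⟨n, rfl⟩ := h.surj w
    obtain ⟨n', hn', he⟩ := key n.2
    have : n' = n := Subtype.ext he
    rw [← this]; exact hn'

/-- products of cells indexed by a parabolic subgroup of `W` stay inside. -/
theorem cell_mul_mem_closure {J : Set W} (hJ : J ⊆ gensOf P π P.S) (l : List W)
    (hl : ∀ s ∈ l, s ∈ J) : ∀ x ∈ cell P π l.prod, ∀ w' ∈ Subgroup.closure J, ∀ y ∈ cell P π w',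
      ∃ w'' ∈ Subgroup.closure J, x * y ∈ cell P π w'' := by
  induction l with
  | nil =>
    intro x hx w' hw' y hy
    rw [List.prod_nil, h.cell_one] at hx
    exact ⟨w', hw', BI_left P (h.BI_cell _) hx hy⟩
  | cons s l ih =>
    intro x hx w' hw' y hy
    rw [List.prod_cons] at hx
    obtain ⟨x1, hx1, x2, hx2, rfl⟩ := h.cell_mul_subset _ _ hx
    obtain ⟨w'', hw'', hxy⟩ := ih (fun a ha => hl a (by simp [ha])) x2 hx2 w' hw' y hy
    have hs : s ∈ J := hl s (by simp)
    have := h.gen_mul_cell (hJ hs) w'' ⟨x1, hx1, _, hxy, rfl⟩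
    simp only at this ⊢
    rw [mul_assoc]
    rcases this with h1 | h1
    · exact ⟨w'', hw'', h1⟩
    · exact ⟨s * w'', mul_mem (Subgroup.subset_closure hs) hw'', h1⟩

/-- `B W_J B` as a subgroup. -/
def cellSubgroup (J : Set W) (hJ : J ⊆ gensOf P π P.S) : Subgroup G where
  carrier := {g | ∃ w ∈ Subgroup.closure J, g ∈ cell P π w}
  one_mem' := ⟨1, one_mem _, by rw [h.cell_one]; exact P.B.one_mem⟩
  inv_mem' := by
    rintro g ⟨w, hw, hg⟩
    exact ⟨w⁻¹, inv_mem hw, h.inv_mem_cell hg⟩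
  mul_mem' := by
    rintro x y ⟨w, hw, hx⟩ ⟨w', hw', hy⟩
    obtain ⟨l, hl, rfl⟩ := (mem_closure_iff_word (fun s hs => h.sq_gens (hJ hs)) w).1 hw
    exact h.cell_mul_mem_closure hJ l hl x hx w' hw' y hy

theorem mem_cellSubgroup {J : Set W} (hJ : J ⊆ gensOf P π P.S) (g : G) :
    g ∈ h.cellSubgroup J hJ ↔ ∃ w ∈ Subgroup.closure J, g ∈ cell P π w := Iff.rfl

/-- Bruhat decomposition: existence. -/
theorem exists_cell (g : G) : ∃ w, g ∈ cell P π w := by
  have htop : h.cellSubgroup (gensOf P π P.S) subset_rfl = ⊤ := by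
    rw [eq_top_iff, ← P.sup_eq_top, sup_le_iff]
    constructor
    · intro b hb
      exact ⟨1, one_mem _, by rw [h.cell_one]; exact hb⟩
    · intro n hn
      exact ⟨π ⟨n, hn⟩, by rw [h.invGen.gen]; trivial, h.mem_cell_apply ⟨n, hn⟩⟩
  have : g ∈ h.cellSubgroup (gensOf P π P.S) subset_rfl := by rw [htop]; trivial
  obtain ⟨w, _, hw⟩ := this
  exact ⟨w, hw⟩

/-- Bruhat decomposition: uniqueness. -/
theorem cell_inj {w w' : W} {g : G} (hg : g ∈ cell P π w) (hg' : g ∈ cell P π w') : w = w' := by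
  have key : ∀ k : ℕ, ∀ w w' : W, wlen (gensOf P π P.S) w = k → k ≤ wlen (gensOf P π P.S) w' →
      ∀ g, g ∈ cell P π w → g ∈ cell P π w' → w = w' := by
    intro k
    induction k with
    | zero =>
      intro w w' hw _ g hg hg'
      have hw1 := h.invGen.eq_one_of_wlen hw
      subst hw1
      obtain ⟨n', rfl⟩ := h.surj w'
      have h1 := h.mem_cell_apply n'
      rw [← h.cell_eq_of_mem hg hg', h.cell_one] at h1
      exact ((h.ker n').2 h1).symm
    | succ k ih =>
      intro w w' hw hk g hg hg'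
      obtain ⟨s, hs, w'', rfl, hlen⟩ := h.invGen.exists_left_factor (w := w) (by omega)
      have hk'' : wlen (gensOf P π P.S) w'' = k := by omega
      obtain ⟨x, hx⟩ := h.cell_nonempty w''
      have h1 : x ∈ cell P π s * cell P π (s * w'') := by
        apply h.cell_mul_subset
        rwa [← mul_assoc, h.sq_gens hs, one_mul]
      rw [h.cell_eq_of_mem hg hg'] at h1
      rcases h.gen_mul_cell hs w' h1 with h2 | h2
      · have := ih w'' w' hk'' (by omega) x hx h2
        subst this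
        omega
      · have h3 := h.invGen.wlen_le_mul_left hs w'
        have := ih w'' (s * w') hk'' (by omega) x hx h2
        rw [this, ← mul_assoc, h.sq_gens hs, one_mul]
  rcases le_total (wlen (gensOf P π P.S) w) (wlen (gensOf P π P.S) w') with hle | hle
  · exact key _ w w' rfl hle g hg hg'
  · exact (key _ w' w rfl hle g hg' hg).symm

theorem lemA_a {s : W} (hs : s ∈ gensOf P π P.S) (w : W)
    (hle : wlen (gensOf P π P.S) w ≤ wlen (gensOf P π P.S) (s * w)) :
    cell P π s * cell P π w ⊆ cell P π (s * w) := by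
  have key : ∀ k : ℕ, ∀ w : W, wlen (gensOf P π P.S) w = k →
      wlen (gensOf P π P.S) w ≤ wlen (gensOf P π P.S) (s * w) →
      cell P π s * cell P π w ⊆ cell P π (s * w) := by
    intro k
    induction k with
    | zero =>
      intro w hw _
      have hw1 := h.invGen.eq_one_of_wlen hw
      subst hw1
      rintro _ ⟨x, hx, y, hy, rfl⟩
      rw [h.cell_one] at hy
      rw [mul_one]
      exact BI_right P (h.BI_cell _) hy hx
    | succ k ih =>
      intro w hw hle
      obtain ⟨s', hs', w', rfl, hlen⟩ := h.invGen.exists_right_factor (w := w) (by omega)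
      have h1 := h.invGen.wlen_mul_right_le hs' (s * w')
      rw [mul_assoc] at h1
      have hih := ih w' (by omega) (by omega)
      rintro _ ⟨x, hx, y, hy, rfl⟩
      obtain ⟨y1, hy1, y2, hy2, rfl⟩ := h.cell_mul_subset _ _ hy
      have h2 : x * y1 ∈ cell P π (s * w') := hih ⟨x, hx, y1, hy1, rfl⟩
      have h3 := h.cell_mul_gen hs' _ ⟨_, h2, y2, hy2, rfl⟩
      have h4 := h.gen_mul_cell hs _ ⟨x, hx, _, hy, rfl⟩
      simp only at h3 h4 ⊢
      rw [mul_assoc, mul_assoc] at h3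
      rcases h3 with h3 | h3
      · rcases h4 with h4 | h4
        · exfalso
          have h5 := h.cell_inj h3 h4
          have h6 : s * (w' * s') = w' := by
            rw [← h5, ← mul_assoc, h.sq_gens hs, one_mul]
          rw [h6] at hle
          omega
        · exact h4
      · exact h3
  exact key _ w rfl hle

theorem lemA_b {s : W} (hs : s ∈ gensOf P π P.S) (w : W)
    (hle : wlen (gensOf P π P.S) (s * w) ≤ wlen (gensOf P π P.S) w) :
    cell P π w ⊆ cell P π s * cell P π w := by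
  have hssw : s * (s * w) = w := by rw [← mul_assoc, h.sq_gens hs, one_mul]
  have ha := h.lemA_a hs (s * w) (by rwa [hssw])
  rw [hssw] at ha
  obtain ⟨x, hx⟩ := h.cell_nonempty s
  obtain ⟨y, hy⟩ := h.cell_nonempty (s * w)
  obtain ⟨x1, hx1, x2, hx2, rfl⟩ := h.gen_sq_cell hs hx
  have h1 : x1 * x2 * y ∈ cell P π w := ha ⟨_, hx, y, hy, rfl⟩
  have h2 : x2 * y ∈ cell P π w := ha ⟨_, hx2, y, hy, rfl⟩
  refine h.cell_subset (BI_mul P (h.BI_cell _) (h.BI_cell _)) h1 ⟨x1, hx1, _, h2, ?_⟩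
  simp only [mul_assoc]

theorem wlen_ne {s : W} (hs : s ∈ gensOf P π P.S) (w : W) :
    wlen (gensOf P π P.S) (s * w) ≠ wlen (gensOf P π P.S) w := by
  intro he
  obtain ⟨g, hg⟩ := h.cell_nonempty w
  have h1 := h.lemA_a hs w he.ge (h.lemA_b hs w he.le hg)
  have h2 := h.cell_inj hg h1
  exact h.gens_ne_one hs (by simpa using h2)

theorem fold : Fold (gensOf P π P.S) where
  toInvGen := h.invGen
  ne := fun s hs w => h.wlen_ne hs w
  fold := by
    intro s hs s' hs' w h1 h2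
    obtain ⟨g, hg⟩ := h.cell_nonempty (w * s')
    obtain ⟨x, hx, y, hy, hxy⟩ := h.lemA_b hs (w * s') (by rw [← mul_assoc]; exact h2.le) hg
    obtain ⟨y1, hy1, y2, hy2, rfl⟩ := h.cell_mul_subset _ _ hy
    have h3 : x * y1 ∈ cell P π (s * w) := h.lemA_a hs w h1.le ⟨x, hx, y1, hy1, rfl⟩
    have h4 := h.cell_mul_gen hs' _ ⟨_, h3, y2, hy2, rfl⟩
    simp only at h4 hxy
    rw [mul_assoc x y1 y2, hxy] at h4
    rcases h4 with h4 | h4
    · exact h.cell_inj h4 hg
    · have := h.cell_inj h4 hg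
      rw [this] at h2
      exact absurd h2 (lt_irrefl _)

/-- If all the letters' cells are in `H ≥ B`, so is the cell of the product. -/
theorem cell_prod_subset {H : Subgroup G} (hH : P.B ≤ H) (l : List W)
    (hl : ∀ s ∈ l, cell P π s ⊆ H) : cell P π l.prod ⊆ H := by
  induction l with
  | nil => rw [List.prod_nil, h.cell_one]; exact hH
  | cons s l ih =>
    rw [List.prod_cons]
    intro g hg
    obtain ⟨x, hx, y, hy, rfl⟩ := h.cell_mul_subset _ _ hg
    exact H.mul_mem (hl s (by simp) hx) (ih (fun a ha => hl a (by simp [ha])) hy)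

/-- The letters of a reduced word of `n` lie in every subgroup containing `B` and `n B n⁻¹`. -/
theorem lemB (l : List W) (hl : ∀ s ∈ l, s ∈ gensOf P π P.S)
    (hred : l.length = wlen (gensOf P π P.S) l.prod) :
    ∀ (n : P.N), π n = l.prod → ∀ H : Subgroup G, P.B ≤ H → (∀ b ∈ P.B, (n : G) * b * (n : G)⁻¹ ∈ H) →
      ∀ s ∈ l, cell P π s ⊆ H := by
  induction l with
  | nil => intro n _ H _ _ s hs; simp at hs
  | cons s l ih =>
    intro n hn H hH hc
    have hs : s ∈ gensOf P π P.S := hl s (by simp)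
    have hred' := h.invGen.reduced_tail hl hred
    have hsw : s * (s :: l).prod = l.prod := by
      rw [List.prod_cons, ← mul_assoc, h.sq_gens hs, one_mul]
    have hb := h.lemA_b hs (s :: l).prod (by
      rw [hsw, ← hred, ← hred']; simp)
    have hn' := h.mem_cell_apply n
    rw [hn] at hn'
    obtain ⟨x, hx, y, hy, hxy⟩ := hb hn'
    rw [← hn, h.cell_apply] at hy
    obtain ⟨b, hb, b', hb', rfl⟩ := mem_doubleCoset.1 hy
    simp only at hxy
    have hxH : x ∈ H := by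
      have h1 : x = ((n : G) * b'⁻¹ * (n : G)⁻¹) * b⁻¹ := by
        have : x * b = (n : G) * b'⁻¹ * (n : G)⁻¹ := by
          calc x * b = (x * (b * n * b')) * b'⁻¹ * (n : G)⁻¹ := by group
            _ = _ := by rw [hxy]
        rw [← this]; group
      rw [h1]
      exact H.mul_mem (hc _ (P.B.inv_mem hb')) (hH (P.B.inv_mem hb))
    have hsH : cell P π s ⊆ H := h.cell_subset (BI_subgroup P hH) hx hxH
    obtain ⟨ns, hns⟩ := h.surj s
    have hnsH : (ns : G) ∈ H := hsH (by rw [← hns]; exact h.mem_cell_apply ns)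
    have hih := ih (fun a ha => hl a (by simp [ha])) hred' (ns⁻¹ * n)
      (by rw [map_mul, map_inv, hns, hn, List.prod_cons, inv_mul_cancel_left]) H hH (by
        intro b hb
        have : ((ns⁻¹ * n : P.N) : G) * b * ((ns⁻¹ * n : P.N) : G)⁻¹
            = (ns : G)⁻¹ * ((n : G) * b * (n : G)⁻¹) * ns := by
          simp only [Subgroup.coe_mul, Subgroup.coe_inv]; group
        rw [this]
        exact H.mul_mem (H.mul_mem (H.inv_mem hnsH) (hc b hb)) hnsH)
    intro a ha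
    rcases List.mem_cons.1 ha with rfl | ha
    · exact hsH
    · exact hih a ha

/-- variant: a subgroup `H ≥ B` meeting the cell of a reduced word contains the cells of the letters. -/
theorem lemB' (l : List W) (hl : ∀ s ∈ l, s ∈ gensOf P π P.S)
    (hred : l.length = wlen (gensOf P π P.S) l.prod) {H : Subgroup G} (hH : P.B ≤ H) {g : G}
    (hg : g ∈ cell P π l.prod) (hgH : g ∈ H) : ∀ s ∈ l, cell P π s ⊆ H := by
  obtain ⟨n, hn⟩ := h.surj l.prod
  have hsub := h.cell_subset (BI_subgroup P hH) hg hgH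
  have hnH : (n : G) ∈ H := hsub (by rw [← hn]; exact h.mem_cell_apply n)
  exact h.lemB l hl hred n hn H hH
    (fun b hb => H.mul_mem (H.mul_mem hnH (hH hb)) (H.inv_mem hnH))

/-- cells of generators coming from `J` lie in the parabolic subgroup. -/
theorem cell_gen_subset_parabolic {J : Set G} {s : W} (hs : s ∈ gensOf P π J) :
    cell P π s ⊆ P.parabolic J := by
  obtain ⟨n, hn, rfl⟩ := hs
  exact h.cell_subset (BI_subgroup P le_sup_left) (h.mem_cell_apply n)
    ((le_sup_right : _ ≤ P.parabolic J) (Subgroup.subset_closure hn))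

theorem parabolic_eq {J : Set G} (hJ : J ⊆ P.S) :
    P.parabolic J = h.cellSubgroup (gensOf P π J) (gensOf_mono P π hJ) := by
  apply le_antisymm
  · refine sup_le ?_ ((Subgroup.closure_le _).2 ?_)
    · intro b hb
      exact ⟨1, one_mem _, by rw [h.cell_one]; exact hb⟩
    · intro s hs
      exact ⟨π ⟨s, P.subset (hJ hs)⟩, Subgroup.subset_closure ⟨⟨s, P.subset (hJ hs)⟩, hs, rfl⟩,
        h.mem_cell_apply _⟩
  · rintro g ⟨w, hw, hg⟩
    obtain ⟨l, hl, rfl⟩ :=
      (mem_closure_iff_word (fun s hs => h.sq_gens (gensOf_mono P π hJ hs)) w).1 hw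
    exact h.cell_prod_subset le_sup_left l (fun s hs => h.cell_gen_subset_parabolic (hl s hs)) hg

theorem mem_parabolic_iff {J : Set G} (hJ : J ⊆ P.S) (g : G) :
    g ∈ P.parabolic J ↔ ∃ w ∈ Subgroup.closure (gensOf P π J), g ∈ cell P π w := by
  rw [h.parabolic_eq hJ]; rfl

omit h in
/-- lifting words of `W_J` to `closure J`. -/
theorem exists_lift {J : Set G} (l : List W) (hl : ∀ s ∈ l, s ∈ gensOf P π J) :
    ∃ n : P.N, (n : G) ∈ Subgroup.closure J ∧ π n = l.prod := by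
  induction l with
  | nil => exact ⟨1, one_mem _, map_one π⟩
  | cons s l ih =>
    obtain ⟨n, hn, hπ⟩ := ih (fun a ha => hl a (by simp [ha]))
    obtain ⟨ns, hns, hs⟩ := hl s (by simp)
    exact ⟨ns * n, mul_mem (Subgroup.subset_closure hns) hn, by rw [map_mul, hs, hπ, List.prod_cons]⟩

theorem gensOf_mem_iff {J : Set G} (hJ : J ⊆ P.S) {s : G} (hs : s ∈ P.S) :
    π ⟨s, P.subset hs⟩ ∈ gensOf P π J ↔ s ∈ J := by
  constructor
  · rintro ⟨n, hn, he⟩
    have := P.inj n (hJ hn) s hs ((h.eq_iff n ⟨s, P.subset hs⟩).1 he)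
    rw [← this]; exact hn
  · intro hsJ
    exact ⟨_, hsJ, rfl⟩

end IsWeyl

theorem normal_T (P : Cfsg.BNPair G) : ((P.B ⊓ P.N).subgroupOf P.N).Normal := by
  constructor
  intro t ht g
  rw [Subgroup.mem_subgroupOf] at ht ⊢
  exact ⟨P.conj_mem g g.2 t ht, (g * t * g⁻¹).2⟩

theorem isWeyl_mk' (P : Cfsg.BNPair G) [hN : ((P.B ⊓ P.N).subgroupOf P.N).Normal] :
    IsWeyl P (QuotientGroup.mk' ((P.B ⊓ P.N).subgroupOf P.N)) where
  surj := QuotientGroup.mk'_surjective _
  ker := fun n => by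
    rw [QuotientGroup.mk'_apply, QuotientGroup.eq_one_iff, Subgroup.mem_subgroupOf]
    exact ⟨fun h => h.1, fun h => ⟨h, n.2⟩⟩

theorem exists_weyl (P : Cfsg.BNPair G) : ∃ (W : Type u) (_ : Group W) (π : P.N →* W), IsWeyl P π := by
  have := normal_T P
  exact ⟨_, inferInstance, _, isWeyl_mk' P⟩

namespace BN

variable (P)

theorem exists_dc (g : G) : ∃ n ∈ P.N, g ∈ doubleCoset n (P.B : Set G) P.B := by
  obtain ⟨W, _, π, h⟩ := exists_weyl P
  obtain ⟨w, hw⟩ := h.exists_cell g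
  obtain ⟨n, rfl⟩ := h.surj w
  rw [h.cell_apply] at hw
  exact ⟨n, n.2, hw⟩

theorem dc_eq_iff {n n' : G} (hn : n ∈ P.N) (hn' : n' ∈ P.N) :
    doubleCoset n (P.B : Set G) P.B = doubleCoset n' (P.B : Set G) P.B ↔ n⁻¹ * n' ∈ P.B := by
  obtain ⟨W, _, π, h⟩ := exists_weyl P
  have h1 := h.cell_apply ⟨n, hn⟩
  have h2 := h.cell_apply ⟨n', hn'⟩
  have h3 := h.eq_iff ⟨n, hn⟩ ⟨n', hn'⟩
  simp only at h1 h2 h3
  rw [← h1, ← h2, ← h3]
  constructor
  · intro he
    have h4 := h.mem_cell_apply ⟨n, hn⟩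
    exact h.cell_inj h4 (by rw [← he]; exact h4)
  · intro he
    rw [he]

theorem mem_parabolic_iff {J : Set G} (hJ : J ⊆ P.S) (g : G) :
    g ∈ P.parabolic J ↔ ∃ n ∈ Subgroup.closure J, g ∈ doubleCoset n (P.B : Set G) P.B := by
  obtain ⟨W, _, π, h⟩ := exists_weyl P
  constructor
  · intro hg
    obtain ⟨w, hw, hgw⟩ := (h.mem_parabolic_iff hJ g).1 hg
    obtain ⟨l, hl, rfl⟩ :=
      (mem_closure_iff_word (fun s hs => h.sq_gens (gensOf_mono P π hJ hs)) w).1 hw
    obtain ⟨n, hn, hπ⟩ := IsWeyl.exists_lift l hl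
    rw [← hπ, h.cell_apply] at hgw
    exact ⟨n, hn, hgw⟩
  · rintro ⟨n, hn, hg⟩
    exact dc_subset P (BI_subgroup P (le_sup_left : _ ≤ P.parabolic J))
      ((le_sup_right : _ ≤ P.parabolic J) hn) hg

theorem mem_of_conj_le {n : G} (hn : n ∈ P.N) {H : Subgroup G} (hH : P.B ≤ H)
    (hc : ∀ b ∈ P.B, n * b * n⁻¹ ∈ H) : n ∈ H := by
  obtain ⟨W, _, π, h⟩ := exists_weyl P
  obtain ⟨l, hl, hlen, hprod⟩ := h.invGen.exists_reduced (π ⟨n, hn⟩)
  have h1 := h.lemB l hl (by rw [hprod, hlen]) ⟨n, hn⟩ hprod.symm H hH hc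
  have h2 := h.cell_prod_subset hH l h1
  rw [hprod] at h2
  exact h2 (h.mem_cell_apply ⟨n, hn⟩)

theorem eq_parabolic {M : Subgroup G} (hM : P.B ≤ M) : M = P.parabolic (P.S ∩ M) := by
  obtain ⟨W, _, π, h⟩ := exists_weyl P
  apply le_antisymm
  · intro g hg
    obtain ⟨w, hw⟩ := h.exists_cell g
    obtain ⟨l, hl, hlen, rfl⟩ := h.invGen.exists_reduced w
    have h1 := h.lemB' l hl hlen hM hw hg
    refine h.cell_prod_subset (le_sup_left : _ ≤ P.parabolic (P.S ∩ M)) l (fun s hs => ?_) hw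
    obtain ⟨n, hn, rfl⟩ := hl s hs
    exact h.cell_gen_subset_parabolic ⟨n, ⟨hn, h1 _ hs (h.mem_cell_apply n)⟩, rfl⟩
  · exact sup_le hM ((Subgroup.closure_le _).2 Set.inter_subset_right)

theorem mem_of_mem_parabolic {J : Set G} (hJ : J ⊆ P.S) {s : G} (hs : s ∈ P.S)
    (hmem : s ∈ P.parabolic J) : s ∈ J := by
  obtain ⟨W, _, π, h⟩ := exists_weyl P
  obtain ⟨w, hw, hsw⟩ := (h.mem_parabolic_iff hJ s).1 hmem
  have h1 := h.cell_inj hsw (h.mem_cell_apply ⟨s, P.subset hs⟩)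
  rw [h1] at hw
  have hsS : π ⟨s, P.subset hs⟩ ∈ gensOf P π P.S := ⟨_, hs, rfl⟩
  exact (h.gensOf_mem_iff hJ hs).1
    (h.fold.mem_of_mem_closure (gensOf_mono P π hJ) hsS (h.gens_ne_one hsS) hw)

theorem parabolic_le_iff {J K : Set G} (hJ : J ⊆ P.S) (hK : K ⊆ P.S) :
    P.parabolic J ≤ P.parabolic K ↔ J ⊆ K := by
  constructor
  · intro hle s hs
    exact mem_of_mem_parabolic P hK (hJ hs)
      (hle ((le_sup_right : _ ≤ P.parabolic J) (Subgroup.subset_closure hs)))
  · intro hle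
    exact sup_le_sup_left (Subgroup.closure_mono hle) _

theorem inter_parabolic {J : Set G} (hJ : J ⊆ P.S) : P.S ∩ (P.parabolic J : Set G) = J := by
  ext s
  constructor
  · rintro ⟨hs, hm⟩
    exact mem_of_mem_parabolic P hJ hs hm
  · intro hs
    exact ⟨hJ hs, (le_sup_right : _ ≤ P.parabolic J) (Subgroup.subset_closure hs)⟩

theorem parabolic_S : P.parabolic P.S = ⊤ := by
  rw [eq_top_iff, ← P.sup_eq_top]
  refine sup_le le_sup_left ?_
  calc P.N = Subgroup.closure P.S ⊔ (P.B ⊓ P.N) := P.closure_sup.symm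
    _ ≤ _ := sup_le le_sup_right (inf_le_left.trans le_sup_left)

theorem parabolic_empty : P.parabolic ∅ = P.B := by
  simp [Cfsg.BNPair.parabolic]

theorem not_mem_B {s : G} (hs : s ∈ P.S) : s ∉ P.B := by
  intro h1
  obtain ⟨b, hb, hnb⟩ := IsWeyl.exists_not_mem hs
  exact hnb (P.B.mul_mem (P.B.mul_mem h1 hb) h1)

theorem mem_of_conj_le' {M M' : Subgroup G} (hM : P.B ≤ M) (hM' : P.B ≤ M') {g : G}
    (hc : ∀ x ∈ M, g * x * g⁻¹ ∈ M') : g ∈ M' := by
  obtain ⟨n, hn, hg⟩ := exists_dc P g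
  obtain ⟨b, hb, b', hb', rfl⟩ := mem_doubleCoset.1 hg
  have hnM : n ∈ M' := by
    apply mem_of_conj_le P hn hM'
    intro c hc'
    have h1 := hc (b'⁻¹ * c * b') (hM (P.B.mul_mem (P.B.mul_mem (P.B.inv_mem hb') hc') hb'))
    have h2 : n * c * n⁻¹ = b⁻¹ * (b * n * b' * (b'⁻¹ * c * b') * (b * n * b')⁻¹) * b := by group
    rw [h2]
    exact M'.mul_mem (M'.mul_mem (M'.inv_mem (hM' hb)) h1) (hM' hb)
  exact M'.mul_mem (M'.mul_mem (hM' hb) hnM) (hM' hb')

theorem parabolic_singleton {s : G} (hs : s ∈ P.S) :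
    (P.parabolic {s} : Set G) = (P.B : Set G) ∪ doubleCoset s (P.B : Set G) P.B := by
  obtain ⟨W, _, π, h⟩ := exists_weyl P
  have hJ : ({s} : Set G) ⊆ P.S := Set.singleton_subset_iff.2 hs
  have hsS : π ⟨s, P.subset hs⟩ ∈ gensOf P π P.S := ⟨_, hs, rfl⟩
  have hcl : ∀ w ∈ Subgroup.closure (gensOf P π {s}), w = 1 ∨ w = π ⟨s, P.subset hs⟩ := by
    intro w hw
    induction hw using Subgroup.closure_induction with
    | mem x hx =>
      obtain ⟨n, hn, rfl⟩ := hx
      right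
      congr 1
      exact Subtype.ext hn
    | one => left; rfl
    | mul x y _ _ hx hy =>
      rcases hx with rfl | rfl <;> rcases hy with rfl | rfl
      · left; simp
      · right; simp
      · right; simp
      · left; exact h.sq_gens hsS
    | inv x _ hx =>
      rcases hx with rfl | rfl
      · left; simp
      · right; exact h.inv_gens hsS
  have h2 := h.cell_apply ⟨s, P.subset hs⟩
  simp only at h2
  ext g
  rw [SetLike.mem_coe, h.mem_parabolic_iff hJ, ← h2, ← h.cell_one]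
  constructor
  · rintro ⟨w, hw, hg⟩
    rcases hcl w hw with rfl | rfl
    · exact Or.inl hg
    · exact Or.inr hg
  · rintro (hg | hg)
    · exact ⟨1, one_mem _, hg⟩
    · exact ⟨_, Subgroup.subset_closure ⟨⟨s, P.subset hs⟩, Set.mem_singleton s, rfl⟩, hg⟩

end BN

end Cfsg.Agent.Lib.Helper29
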