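import Mathlib
import Cfsg.Prelude.Def_Classical

/-! The exterior square `GL₄(F) → GL₆(F)` and the Klein quadric `x₁y₁ + x₂y₂ + x₃y₃`. -/

set_option autoImplicit false

namespace Cfsg.Agent.Lib.Helper29.O6

open Matrix

variable {F : Type*} [Field F]

abbrev J6 := Fin 3 ⊕ Fin 3

/-- the obvious bijection -/
def eJ6 : J6 ≃ Fin 6 where
  toFun := Sum.elim ![0, 1, 2] ![3, 4, 5]
  invFun := ![Sum.inl 0, Sum.inl 1, Sum.inl 2, Sum.inr 0, Sum.inr 1, Sum.inr 2]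
  left_inv := by
    rintro (i | i) <;> fin_cases i <;> rfl
  right_inv := by
    intro i; fin_cases i <;> rfl

def lift (A : Matrix (Fin 6) (Fin 6) F) : Matrix J6 J6 F := A.submatrix eJ6 eJ6

theorem lift_mul (A B : Matrix (Fin 6) (Fin 6) F) : lift (A * B) = lift A * lift B :=
  (Matrix.submatrix_mul_equiv A B eJ6 eJ6 eJ6).symm

theorem lift_one : lift (1 : Matrix (Fin 6) (Fin 6) F) = 1 := Matrix.submatrix_one_equiv eJ6

theorem lift_inj {A B : Matrix (Fin 6) (Fin 6) F} (h : lift A = lift B) : A = B := by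
  ext i j
  have := congrFun (congrFun h (eJ6.symm i)) (eJ6.symm j)
  simpa [lift] using this

def q6 (w : Fin 6 → F) : F := w 0 * w 3 + w 1 * w 4 + w 2 * w 5

theorem Q_eq (v : J6 → F) : Cfsg.quadFormPlus 3 F v = q6 (v ∘ eJ6.symm) := by
  simp [Cfsg.quadFormPlus, q6, eJ6, Fin.sum_univ_three]

theorem Q_lift (A : Matrix (Fin 6) (Fin 6) F) (v : J6 → F) :
    Cfsg.quadFormPlus 3 F (lift A *ᵥ v) = q6 (A *ᵥ (v ∘ eJ6.symm)) := by
  rw [Q_eq, lift, Matrix.submatrix_mulVec_equiv]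
  congr 1
  ext i
  simp

def rr : Fin 6 → Fin 4 := ![0, 0, 0, 2, 1, 1]
def tt : Fin 6 → Fin 4 := ![1, 2, 3, 3, 3, 2]
def ss : Fin 6 → F := ![1, 1, 1, 1, -1, 1]

@[simp] theorem rr0 : rr 0 = 0 := rfl
@[simp] theorem rr1 : rr 1 = 0 := rfl
@[simp] theorem rr2 : rr 2 = 0 := rfl
@[simp] theorem rr3 : rr 3 = 2 := rfl
@[simp] theorem rr4 : rr 4 = 1 := rfl
@[simp] theorem rr5 : rr 5 = 1 := rfl
@[simp] theorem tt0 : tt 0 = 1 := rfl
@[simp] theorem tt1 : tt 1 = 2 := rfl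
@[simp] theorem tt2 : tt 2 = 3 := rfl
@[simp] theorem tt3 : tt 3 = 3 := rfl
@[simp] theorem tt4 : tt 4 = 3 := rfl
@[simp] theorem tt5 : tt 5 = 2 := rfl

def minor (g : Matrix (Fin 4) (Fin 4) F) (I J : Fin 6) : F :=
  g (rr I) (rr J) * g (tt I) (tt J) - g (rr I) (tt J) * g (tt I) (rr J)

/-- the exterior square in the coordinates `(p₀₁, p₀₂, p₀₃, p₂₃, -p₁₃, p₁₂)`. -/
def L6 (g : Matrix (Fin 4) (Fin 4) F) : Matrix (Fin 6) (Fin 6) F :=
  Matrix.of fun I J => ss I * ss J * minor g I J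

set_option maxHeartbeats 3200000 in
theorem L6_mul (g h : Matrix (Fin 4) (Fin 4) F) : L6 (g * h) = L6 g * L6 h := by
  ext I J
  fin_cases I <;> fin_cases J <;>
    simp [L6, minor, ss, Matrix.mul_apply, Fin.sum_univ_four, Fin.sum_univ_six] <;> ring

theorem L6_one : L6 (1 : Matrix (Fin 4) (Fin 4) F) = 1 := by
  ext I J
  simp only [L6, minor, Matrix.of_apply, Matrix.one_apply]
  fin_cases I <;> fin_cases J <;> simp [ss]

theorem det4 (g : Matrix (Fin 4) (Fin 4) F) : g.det =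
    minor g 0 0 * minor g 3 3 - minor g 0 1 * minor g 3 4 + minor g 0 2 * minor g 3 5
    + minor g 0 5 * minor g 3 2 - minor g 0 4 * minor g 3 1 + minor g 0 3 * minor g 3 0 := by
  rw [Matrix.det_succ_row_zero]
  simp [Fin.sum_univ_four, Matrix.det_fin_three, minor, Fin.succAbove]
  ring

set_option maxHeartbeats 3200000 in
theorem q6_L6 (g : Matrix (Fin 4) (Fin 4) F) (w : Fin 6 → F) :
    q6 (L6 g *ᵥ w) = g.det * q6 w := by
  rw [det4]
  simp [q6, L6, minor, ss, Matrix.mulVec, dotProduct, Fin.sum_univ_six]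
  ring

theorem L6_transpose (g : Matrix (Fin 4) (Fin 4) F) : L6 gᵀ = (L6 g)ᵀ := by
  ext I J
  simp only [L6, minor, Matrix.of_apply, Matrix.transpose_apply]
  ring

/-- the Gram matrix of the polar form; also the isometry swapping `xᵢ ↔ yᵢ`. -/
def T6 : Matrix (Fin 6) (Fin 6) F :=
  !![0, 0, 0, 1, 0, 0; 0, 0, 0, 0, 1, 0; 0, 0, 0, 0, 0, 1;
     1, 0, 0, 0, 0, 0; 0, 1, 0, 0, 0, 0; 0, 0, 1, 0, 0, 0]

theorem T6_mul_T6 : (T6 : Matrix (Fin 6) (Fin 6) F) * T6 = 1 := by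
  ext i j
  fin_cases i <;> fin_cases j <;> simp [T6, Matrix.mul_apply, Fin.sum_univ_six]

theorem q6_T6 (w : Fin 6 → F) : q6 (T6 *ᵥ w) = q6 w := by
  simp [q6, T6, Matrix.mulVec, dotProduct, Fin.sum_univ_six]
  ring

set_option maxHeartbeats 3200000 in
theorem gram (g : Matrix (Fin 4) (Fin 4) F) : L6 gᵀ * T6 * L6 g = g.det • T6 := by
  rw [det4]
  ext I J
  fin_cases I <;> fin_cases J <;>
    simp [L6, minor, ss, T6, Matrix.mul_apply, Fin.sum_univ_six] <;> ring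

theorem T6_L6 (g gi : Matrix (Fin 4) (Fin 4) F) (h : g * gi = 1) :
    T6 * L6 g = g.det • (L6 giᵀ * T6) := by
  have h1 := gram giᵀ
  rw [Matrix.transpose_transpose, Matrix.det_transpose] at h1
  have h2 : L6 g * L6 gi = 1 := by rw [← L6_mul, h, L6_one]
  have hdet : g.det * gi.det = 1 := by rw [← Matrix.det_mul, h, Matrix.det_one]
  have h3 : T6 * L6 giᵀ = gi.det • (L6 g * T6) := by
    calc T6 * L6 giᵀ = (L6 g * L6 gi) * T6 * L6 giᵀ := by rw [h2, Matrix.one_mul]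
      _ = L6 g * (L6 gi * T6 * L6 giᵀ) := by simp only [Matrix.mul_assoc]
      _ = gi.det • (L6 g * T6) := by rw [h1, Matrix.mul_smul]
  have h4 : L6 g * T6 = g.det • (T6 * L6 giᵀ) := by
    rw [h3, smul_smul, hdet, one_smul]
  calc T6 * L6 g = T6 * (L6 g * T6) * T6 := by
        rw [Matrix.mul_assoc, Matrix.mul_assoc, T6_mul_T6, Matrix.mul_one]
    _ = g.det • ((T6 * T6) * L6 giᵀ * T6) := by
        rw [h4, Matrix.mul_smul, Matrix.smul_mul]
        simp only [Matrix.mul_assoc]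
    _ = g.det • (L6 giᵀ * T6) := by rw [T6_mul_T6, Matrix.one_mul]

theorem col_zero {u0 u1 v0 v1 w0 w1 d : F} (hd : d ≠ 0) (h1 : u0 * v1 - v0 * u1 = d)
    (h2 : u0 * w1 - w0 * u1 = 0) (h3 : v0 * w1 - w0 * v1 = 0) : w0 = 0 ∧ w1 = 0 := by
  constructor
  · have : d * w0 = 0 := by rw [← h1]; linear_combination v0 * h2 - u0 * h3
    exact (mul_eq_zero.1 this).resolve_left hd
  · have : d * w1 = 0 := by rw [← h1]; linear_combination v1 * h2 - u1 * h3
    exact (mul_eq_zero.1 this).resolve_left hd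

end Cfsg.Agent.Lib.Helper29.O6
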