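import Cfsg.Prelude.Def_LieExceptional

set_option autoImplicit false

namespace Cfsg.Agent.Lib.Helper29.Sz

variable {F : Type*} [Field F] (m : ℕ)

/-- the field endomorphism `σ : t ↦ t ^ 2^(m+1)` -/
def sg (t : F) : F := t ^ (2 ^ (m + 1))

/-- the function defining the ovoid -/
def ff (x y : F) : F := x * y + x ^ (2 ^ (m + 1) + 2) + y ^ (2 ^ (m + 1))

theorem ff_eq (x y : F) : ff m x y = x * y + sg m x * x ^ 2 + sg m y := by
  unfold ff sg; rw [pow_add]

/-- affine point of the ovoid (as a vector) -/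
def pt (x y : F) : Fin 4 → F := ![ff m x y, y, x, 1]

/-- the vector spanning the point at infinity -/
def e1 : Fin 4 → F := ![1, 0, 0, 0]

theorem pt_ne_zero (x y : F) : pt m x y ≠ 0 := fun h => by
  have := congrFun h 3
  simp [pt] at this

theorem e1_ne_zero : (e1 : Fin 4 → F) ≠ 0 := fun h => by
  have := congrFun h 0
  simp [e1] at this

@[simp] theorem sg_zero : sg m (0 : F) = 0 := by simp [sg]
@[simp] theorem sg_one : sg m (1 : F) = 1 := by simp [sg]
theorem sg_mul (a b : F) : sg m (a * b) = sg m a * sg m b := mul_pow a b _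
theorem sg_pow (a : F) (k : ℕ) : sg m (a ^ k) = sg m a ^ k := by
  unfold sg; rw [← pow_mul, ← pow_mul, mul_comm]
theorem sg_inv (a : F) : sg m a⁻¹ = (sg m a)⁻¹ := inv_pow a _
theorem sg_div (a b : F) : sg m (a / b) = sg m a / sg m b := div_pow a b _
theorem sg_eq_zero {a : F} : sg m a = 0 ↔ a = 0 := by
  unfold sg; exact pow_eq_zero_iff (by positivity)
theorem sg_ne_zero {a : F} (h : a ≠ 0) : sg m a ≠ 0 := fun h' => h ((sg_eq_zero m).1 h')

@[simp] theorem ff_zero : ff m (0 : F) 0 = 0 := by simp [ff_eq]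

/-- membership in the ovoid, parametrised form -/
theorem mem_ovoid_iff (v : Fin 4 → F) (hv : v ≠ 0) :
    Projectivization.mk F v hv ∈ Cfsg.suzukiOvoid F m ↔
      ∃ c : F, c ≠ 0 ∧ (v = c • e1 ∨ ∃ x y : F, v = c • pt m x y) := by
  constructor
  · rintro ⟨v', hv', he, h⟩
    obtain ⟨c, hc⟩ := (Projectivization.mk_eq_mk_iff' F v v' hv hv').1 he
    have hc0 : c ≠ 0 := by
      rintro rfl
      exact hv (by rw [← hc, zero_smul])
    refine ⟨c, hc0, ?_⟩
    rcases h with rfl | ⟨x, y, rfl⟩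
    · exact Or.inl hc.symm
    · exact Or.inr ⟨x, y, hc.symm⟩
  · rintro ⟨c, hc0, h⟩
    rcases h with h | ⟨x, y, h⟩
    · exact ⟨e1, e1_ne_zero, (Projectivization.mk_eq_mk_iff' F v e1 hv e1_ne_zero).2 ⟨c, h.symm⟩,
        Or.inl rfl⟩
    · exact ⟨pt m x y, pt_ne_zero m x y,
        (Projectivization.mk_eq_mk_iff' F v _ hv (pt_ne_zero m x y)).2 ⟨c, h.symm⟩, Or.inr ⟨x, y, rfl⟩⟩

/-- membership in the ovoid, in coordinates -/
theorem mem_ovoid_iff' (v : Fin 4 → F) (hv : v ≠ 0) :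
    Projectivization.mk F v hv ∈ Cfsg.suzukiOvoid F m ↔
      (v 1 = 0 ∧ v 2 = 0 ∧ v 3 = 0) ∨ (v 3 ≠ 0 ∧ v 0 = v 3 * ff m (v 2 / v 3) (v 1 / v 3)) := by
  rw [mem_ovoid_iff]
  constructor
  · rintro ⟨c, hc0, rfl | ⟨x, y, rfl⟩⟩
    · left; simp [e1]
    · right
      simp [pt, hc0]
  · rintro (⟨h1, h2, h3⟩ | ⟨h3, h0⟩)
    · have h0 : v 0 ≠ 0 := by
        intro h0
        apply hv
        ext i
        fin_cases i <;> simp [h0, h1, h2, h3]
      refine ⟨v 0, h0, Or.inl ?_⟩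
      ext i
      fin_cases i <;> simp [e1, h1, h2, h3]
    · refine ⟨v 3, h3, Or.inr ⟨v 2 / v 3, v 1 / v 3, ?_⟩⟩
      ext i
      fin_cases i
      · simpa [pt] using h0
      · simp [pt]; field_simp
      · simp [pt]; field_simp
      · simp [pt]

/-- the point at infinity -/
theorem infty_eq : Cfsg.suzukiPointInfinity F = Projectivization.mk F e1 e1_ne_zero := rfl

/-- affine points as points of projective space -/
def ppt (x y : F) : Projectivization F (Fin 4 → F) := Projectivization.mk F (pt m x y) (pt_ne_zero m x y)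

theorem zero_eq : Cfsg.suzukiPointZero F = ppt m 0 0 := by
  unfold Cfsg.suzukiPointZero ppt
  congr 1
  simp [pt]

theorem infty_mem : Cfsg.suzukiPointInfinity F ∈ Cfsg.suzukiOvoid F m :=
  ⟨_, _, rfl, Or.inl rfl⟩

theorem ppt_mem (x y : F) : ppt m x y ∈ Cfsg.suzukiOvoid F m :=
  ⟨_, _, rfl, Or.inr ⟨x, y, rfl⟩⟩

theorem mem_ovoid_cases {p : Projectivization F (Fin 4 → F)} (hp : p ∈ Cfsg.suzukiOvoid F m) :
    p = Cfsg.suzukiPointInfinity F ∨ ∃ x y, p = ppt m x y := by
  obtain ⟨v, hv, rfl, rfl | ⟨x, y, rfl⟩⟩ := hp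
  · exact Or.inl rfl
  · exact Or.inr ⟨x, y, rfl⟩

theorem ppt_ne_infty (x y : F) : ppt m x y ≠ Cfsg.suzukiPointInfinity F := by
  intro h
  obtain ⟨c, hc⟩ := (Projectivization.mk_eq_mk_iff' F _ _ _ _).1 h
  have := congrFun hc 3
  simp [pt] at this

theorem ppt_inj {x y x' y' : F} (h : ppt m x y = ppt m x' y') : x = x' ∧ y = y' := by
  obtain ⟨c, hc⟩ := (Projectivization.mk_eq_mk_iff' F _ _ _ _).1 h
  have h3 := congrFun hc 3
  have h2 := congrFun hc 2
  have h1 := congrFun hc 1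
  simp [pt] at h1 h2 h3
  subst h3
  simp at h1 h2
  exact ⟨h2.symm, h1.symm⟩

/-- parametrisation of the ovoid -/
noncomputable def ovoidEquiv : Option (F × F) ≃ Cfsg.suzukiOvoid F m :=
  Equiv.ofBijective
    (fun o => match o with
      | none => ⟨Cfsg.suzukiPointInfinity F, infty_mem m⟩
      | some p => ⟨ppt m p.1 p.2, ppt_mem m p.1 p.2⟩)
    (by
      constructor
      · rintro (_ | ⟨x, y⟩) (_ | ⟨x', y'⟩) h
        · rfl
        · exact absurd (congrArg Subtype.val h).symm (ppt_ne_infty m x' y')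
        · exact absurd (congrArg Subtype.val h) (ppt_ne_infty m x y)
        · obtain ⟨h1, h2⟩ := ppt_inj m (congrArg Subtype.val h)
          simp only at h1 h2
          rw [h1, h2]
      · rintro ⟨p, hp⟩
        rcases mem_ovoid_cases m hp with rfl | ⟨x, y, rfl⟩
        · exact ⟨none, rfl⟩
        · exact ⟨some (x, y), rfl⟩)

theorem card_ovoid [Fintype F] : Nat.card (Cfsg.suzukiOvoid F m) = Fintype.card F ^ 2 + 1 := by
  rw [← Nat.card_congr (ovoidEquiv m), Finite.card_option, Nat.card_prod, Nat.card_eq_fintype_card]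
  ring

end Cfsg.Agent.Lib.Helper29.Sz
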