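import Cfsg.Agent.Lib.Helper29.SzStab

set_option autoImplicit false

namespace Cfsg.Agent.Lib.Helper29.Sz

open Matrix
open scoped Pointwise

variable {F : Type*} [Field F] {m : ℕ}

/-- normal form for the elements fixing `∞` -/
theorem stab_infty_form [Finite F] (hG : Good F m) (hex : ∃ t : F, t ≠ 0 ∧ t ≠ 1)
    {g : SpecialLinearGroup (Fin 4) F} (hg : g ∈ Cfsg.Sz F m)
    (hinf : g • Cfsg.suzukiPointInfinity F = Cfsg.suzukiPointInfinity F) :
    ∃ (a b : F) (k : Fˣ), g = T m a b * hh m k := by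
  rcases mem_ovoid_cases m (smul_mem_ovoid hg (ppt_mem m 0 0)) with h | ⟨a, b, h⟩
  · exact absurd (smul_left_cancel g (h.trans hinf.symm)) (ppt_ne_infty m 0 0)
  · have h1 : ((T m a b)⁻¹ * g) • Cfsg.suzukiPointInfinity F = Cfsg.suzukiPointInfinity F := by
      rw [mul_smul, hinf, inv_smul_eq_iff, T_infty]
    have h2 : ((T m a b)⁻¹ * g) • ppt m (0 : F) 0 = ppt m 0 0 := by
      rw [mul_smul, h, inv_smul_eq_iff, T_from_zero hG]
    obtain ⟨k, hk⟩ := stab_two hG hex (mul_mem (inv_mem (T_mem hG a b)) hg) h1 h2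
    exact ⟨a, b, k, by rw [← hk, mul_inv_cancel_left]⟩

theorem hh_zero (hG : Good F m) (k : Fˣ) : hh m k • ppt m (0 : F) 0 = ppt m 0 0 := by
  rw [hh_ppt hG]; simp

/-- parametrisation of the stabiliser of `∞` -/
theorem card_stab_infty [Fintype F] (hG : Good F m) (hex : ∃ t : F, t ≠ 0 ∧ t ≠ 1) :
    Nat.card (MulAction.stabilizer (Cfsg.Sz F m) (Cfsg.suzukiPointInfinity F)) =
      Fintype.card F ^ 2 * (Fintype.card F - 1) := by
  let φ : F × F × Fˣ → MulAction.stabilizer (Cfsg.Sz F m) (Cfsg.suzukiPointInfinity F) :=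
    fun p => ⟨⟨T m p.1 p.2.1 * hh m p.2.2, mul_mem (T_mem hG _ _) (hh_mem hG _)⟩, by
      show (T m p.1 p.2.1 * hh m p.2.2) • Cfsg.suzukiPointInfinity F = Cfsg.suzukiPointInfinity F
      rw [mul_smul, hh_infty, T_infty]⟩
  have hbij : Function.Bijective φ := by
    constructor
    · rintro ⟨a, b, k⟩ ⟨a', b', k'⟩ h
      have h1 : T m a b * hh m k = T m a' b' * hh m k' :=
        congrArg (fun x => ((x : MulAction.stabilizer (Cfsg.Sz F m) (Cfsg.suzukiPointInfinity F)) :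
          Cfsg.Sz F m).1) h
      have h2 := congrArg (fun x => x • ppt m (0 : F) 0) h1
      simp only [mul_smul, hh_zero hG, T_from_zero hG] at h2
      obtain ⟨rfl, rfl⟩ := ppt_inj m h2
      have h3 := hh_inj m (mul_left_cancel h1)
      rw [h3]
    · rintro ⟨⟨g, hg⟩, h⟩
      obtain ⟨a, b, k, rfl⟩ := stab_infty_form hG hex hg h
      exact ⟨(a, b, k), rfl⟩
  rw [← Nat.card_congr (Equiv.ofBijective φ hbij), Nat.card_prod, Nat.card_prod, Nat.card_units,
    Nat.card_eq_fintype_card]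
  ring

theorem orbit_infty [Finite F] (hG : Good F m) :
    MulAction.orbit (Cfsg.Sz F m) (Cfsg.suzukiPointInfinity F) = Cfsg.suzukiOvoid F m := by
  ext P
  constructor
  · rintro ⟨g, rfl⟩
    exact smul_mem_ovoid g.2 (infty_mem m)
  · intro hP
    obtain ⟨g, hg, hgP⟩ := exists_to_infty hG hP
    refine ⟨⟨g, hg⟩⁻¹, ?_⟩
    show (⟨g, hg⟩ : Cfsg.Sz F m)⁻¹ • Cfsg.suzukiPointInfinity F = P
    rw [inv_smul_eq_iff]
    exact hgP.symm

theorem card_Sz [Fintype F] (hG : Good F m) (hex : ∃ t : F, t ≠ 0 ∧ t ≠ 1) :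
    Nat.card (Cfsg.Sz F m) =
      Fintype.card F ^ 2 * (Fintype.card F ^ 2 + 1) * (Fintype.card F - 1) := by
  rw [← Subgroup.card_mul_index (MulAction.stabilizer (Cfsg.Sz F m) (Cfsg.suzukiPointInfinity F)),
    MulAction.index_stabilizer, orbit_infty hG, ← Nat.card_coe_set_eq, card_ovoid,
    card_stab_infty hG hex]
  ring

/-- the subgroup generated by the explicit elements -/
def Gen (F : Type*) [Field F] (m : ℕ) : Subgroup (SpecialLinearGroup (Fin 4) F) :=
  Subgroup.closure ({g | ∃ a b, g = T m a b} ∪ {g | ∃ k, g = hh m k} ∪ {w})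

theorem T_mem_Gen (a b : F) : T m a b ∈ Gen F m :=
  Subgroup.subset_closure (Or.inl (Or.inl ⟨a, b, rfl⟩))

theorem hh_mem_Gen (k : Fˣ) : hh m k ∈ Gen F m :=
  Subgroup.subset_closure (Or.inl (Or.inr ⟨k, rfl⟩))

theorem w_mem_Gen : (w : SpecialLinearGroup (Fin 4) F) ∈ Gen F m :=
  Subgroup.subset_closure (Or.inr rfl)

theorem Sz_le_Gen [Finite F] (hG : Good F m) (hex : ∃ t : F, t ≠ 0 ∧ t ≠ 1) :
    Cfsg.Sz F m ≤ Gen F m := by
  intro g hg
  rcases mem_ovoid_cases m (smul_mem_ovoid hg (infty_mem m)) with h | ⟨x, y, h⟩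
  · obtain ⟨a, b, k, rfl⟩ := stab_infty_form hG hex hg h
    exact mul_mem (T_mem_Gen a b) (hh_mem_Gen k)
  · have h1 : (w * T m x (y + sg m x * x) * g) • Cfsg.suzukiPointInfinity F =
        Cfsg.suzukiPointInfinity F := by
      rw [mul_smul, mul_smul, h, T_to_zero hG, w_zero]
    obtain ⟨a, b, k, hk⟩ := stab_infty_form hG hex
      (mul_mem (mul_mem (w_mem hG) (T_mem hG _ _)) hg) h1
    have h2 : g = (w * T m x (y + sg m x * x))⁻¹ * (T m a b * hh m k) := by
      rw [← hk, inv_mul_cancel_left]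
    rw [h2]
    exact mul_mem (inv_mem (mul_mem w_mem_Gen (T_mem_Gen _ _)))
      (mul_mem (T_mem_Gen a b) (hh_mem_Gen k))

/-- the elements of `SL₄` preserving the alternating form -/
def formSubgroup (F : Type*) [Field F] : Subgroup (SpecialLinearGroup (Fin 4) F) where
  carrier := {g | g.1ᵀ * Cfsg.suzukiForm F * g.1 = Cfsg.suzukiForm F}
  one_mem' := by simp
  mul_mem' := by
    intro g h hg hh
    simp only [Set.mem_ofPred_eq] at hg hh ⊢
    have : (g * h).1 = g.1 * h.1 := rfl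
    rw [this, Matrix.transpose_mul]
    calc h.1ᵀ * g.1ᵀ * Cfsg.suzukiForm F * (g.1 * h.1)
        = h.1ᵀ * (g.1ᵀ * Cfsg.suzukiForm F * g.1) * h.1 := by simp only [Matrix.mul_assoc]
      _ = Cfsg.suzukiForm F := by rw [hg, hh]
  inv_mem' := by
    intro g hg
    simp only [Set.mem_ofPred_eq] at hg ⊢
    have h1 : g.1 * (g⁻¹).1 = 1 := by
      have : (g * g⁻¹).1 = g.1 * (g⁻¹).1 := rfl
      rw [← this, mul_inv_cancel]; rfl
    have h2 : (g⁻¹).1ᵀ * g.1ᵀ = 1 := by
      rw [← Matrix.transpose_mul, h1, Matrix.transpose_one]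
    calc (g⁻¹).1ᵀ * Cfsg.suzukiForm F * (g⁻¹).1
        = (g⁻¹).1ᵀ * (g.1ᵀ * Cfsg.suzukiForm F * g.1) * (g⁻¹).1 := by rw [hg]
      _ = ((g⁻¹).1ᵀ * g.1ᵀ) * Cfsg.suzukiForm F * (g.1 * (g⁻¹).1) := by
          simp only [Matrix.mul_assoc]
      _ = Cfsg.suzukiForm F := by rw [h1, h2, Matrix.one_mul, Matrix.mul_one]

theorem Gen_le_form (hG : Good F m) : Gen F m ≤ formSubgroup F := by
  unfold Gen
  rw [Subgroup.closure_le]
  rintro g ((⟨a, b, rfl⟩ | ⟨k, rfl⟩) | rfl)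
  · show (Tm m a b)ᵀ * Cfsg.suzukiForm F * Tm m a b = Cfsg.suzukiForm F
    ext i j
    fin_cases i <;> fin_cases j <;>
      simp [Tm, Cfsg.suzukiForm, Matrix.mul_apply, Fin.sum_univ_succ, hG.add_self]
    · linear_combination (b + sg m a * a) * hG.two
    · linear_combination (b + sg m a * a) * hG.two
    · linear_combination (ff m a b + a * b) * hG.two
  · show (hm m (k : F))ᵀ * Cfsg.suzukiForm F * hm m (k : F) = Cfsg.suzukiForm F
    have hk : (k : F) ≠ 0 := k.ne_zero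
    have hs : sg m (k : F) ≠ 0 := sg_ne_zero m hk
    ext i j
    fin_cases i <;> fin_cases j <;>
      simp [hm, Cfsg.suzukiForm, Matrix.mul_apply, Fin.sum_univ_succ, hk] <;> field_simp
  · show (wm : Matrix (Fin 4) (Fin 4) F)ᵀ * Cfsg.suzukiForm F * wm = Cfsg.suzukiForm F
    ext i j
    fin_cases i <;> fin_cases j <;>
      simp [wm, Cfsg.suzukiForm, Matrix.mul_apply, Fin.sum_univ_succ]

end Cfsg.Agent.Lib.Helper29.Sz
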