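import Cfsg.Agent.Lib.Helper29.SzBasic

set_option autoImplicit false

namespace Cfsg.Agent.Lib.Helper29.Sz

open Matrix
open scoped Pointwise

variable {F : Type*} [Field F] {m : ℕ}

/-- the properties of the field and of `σ` that we use -/
structure Good (F : Type*) [Field F] (m : ℕ) : Prop where
  two : (2 : F) = 0
  sgsg : ∀ t : F, sg m (sg m t) = t ^ 2

theorem good_of_card [Fintype F] (hF : Fintype.card F = 2 ^ (2 * m + 1)) : Good F m where
  two := by
    have h1 : ((Fintype.card F : ℕ) : F) = 0 := Nat.cast_card_eq_zero F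
    rw [hF] at h1
    push_cast at h1
    exact pow_eq_zero_iff (by omega) |>.1 h1
  sgsg := by
    intro t
    unfold sg
    rw [← pow_mul]
    have h1 : 2 ^ (m + 1) * 2 ^ (m + 1) = Fintype.card F * 2 := by
      rw [hF]; ring
    rw [h1, pow_mul, FiniteField.pow_card]

namespace Good

variable (hG : Good F m)
include hG

theorem charP : CharP F 2 := CharTwo.of_one_ne_zero_of_two_eq_zero one_ne_zero hG.two

theorem sg_add (a b : F) : sg m (a + b) = sg m a + sg m b := by
  have := hG.charP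
  have : Fact (Nat.Prime 2) := ⟨Nat.prime_two⟩
  exact add_pow_char_pow a b 2 (m + 1)

theorem add_self (a : F) : a + a = 0 := by linear_combination a * hG.two

theorem eq_of_add_eq_zero {a b : F} (h : a + b = 0) : a = b := by
  linear_combination h - b * hG.two

theorem sg_inj {a b : F} (h : sg m a = sg m b) : a = b := by
  apply hG.eq_of_add_eq_zero
  rw [← sg_eq_zero m, hG.sg_add, h, hG.add_self]

theorem sq_inj {a b : F} (h : a ^ 2 = b ^ 2) : a = b := by
  apply hG.eq_of_add_eq_zero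
  have : (a + b) ^ 2 = 0 := by linear_combination h + (a * b + b ^ 2) * hG.two
  exact pow_eq_zero_iff (by norm_num) |>.1 this

theorem sg_ff (x y : F) :
    sg m (ff m x y) = sg m x * sg m y + x ^ 2 * sg m x ^ 2 + y ^ 2 := by
  rw [ff_eq, hG.sg_add, hG.sg_add, sg_mul, sg_mul, hG.sgsg, hG.sgsg, sg_pow]

theorem ff_eq_zero {x y : F} : ff m x y = 0 ↔ x = 0 ∧ y = 0 := by
  constructor
  · intro h
    have E2 := hG.sg_ff x y
    rw [h, sg_zero] at E2
    rw [ff_eq] at h
    have h3 : y * (sg m x * x + y) = 0 := by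
      linear_combination -E2 + sg m x * h - (sg m x * sg m y + x ^ 2 * sg m x ^ 2) * hG.two
    rcases mul_eq_zero.1 h3 with hy | hy
    · subst hy
      simp only [mul_zero, sg_zero, add_zero, zero_add] at h
      rcases mul_eq_zero.1 h with h4 | h4
      · exact ⟨(sg_eq_zero m).1 h4, rfl⟩
      · exact ⟨pow_eq_zero_iff (by norm_num) |>.1 h4, rfl⟩
    · have hy' : y = sg m x * x := (hG.eq_of_add_eq_zero hy).symm
      subst hy'
      rw [sg_mul, hG.sgsg] at h
      have h4 : sg m x * x ^ 2 = 0 := by linear_combination h - sg m x * x ^ 2 * hG.two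
      have hx : x = 0 := by
        rcases mul_eq_zero.1 h4 with h4 | h4
        · exact (sg_eq_zero m).1 h4
        · exact pow_eq_zero_iff (by norm_num) |>.1 h4
      subst hx
      simp
  · rintro ⟨rfl, rfl⟩
    exact ff_zero m

theorem ff_T (a b x y : F) :
    ff m (x + a) (y + b + sg m a * x) =
      ff m x y + a * y + (sg m a * a + b) * x + ff m a b := by
  simp only [ff_eq, hG.sg_add, sg_mul, hG.sgsg]
  linear_combination (sg m a * a * x + sg m a * x ^ 2 + sg m x * a * x + sg m x * a ^ 2) * hG.two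

theorem ff_h (k x y : F) :
    ff m (sg m k * x) (k ^ 2 * sg m k * y) = k ^ 2 * sg m k ^ 2 * ff m x y := by
  simp only [ff_eq, sg_mul, hG.sgsg, sg_pow]
  ring

theorem ff_w {x y : F} (h : ff m x y ≠ 0) :
    ff m (y / ff m x y) (x / ff m x y) = 1 / ff m x y := by
  have hΦ : sg m (ff m x y) ≠ 0 := sg_ne_zero m h
  have key : x * y * sg m (ff m x y) + sg m y * y ^ 2 + sg m x * ff m x y ^ 2 =
      ff m x y * sg m (ff m x y) := by
    rw [hG.sg_ff, ff_eq]
    linear_combination (sg m x * sg m y * x * y + sg m x ^ 2 * x ^ 3 * y) * hG.two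
  rw [ff_eq m (y / ff m x y), sg_div, sg_div]
  calc y / ff m x y * (x / ff m x y) + sg m y / sg m (ff m x y) * (y / ff m x y) ^ 2
        + sg m x / sg m (ff m x y)
      = (x * y * sg m (ff m x y) + sg m y * y ^ 2 + sg m x * ff m x y ^ 2) /
          (sg m (ff m x y) * ff m x y ^ 2) := by field_simp
    _ = ff m x y * sg m (ff m x y) / (sg m (ff m x y) * ff m x y ^ 2) := by rw [key]
    _ = 1 / ff m x y := by field_simp

end Good

variable (m)

/-- translation matrices -/
def Tm (a b : F) : Matrix (Fin 4) (Fin 4) F :=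
  !![1, a, sg m a * a + b, ff m a b; 0, 1, sg m a, b; 0, 0, 1, a; 0, 0, 0, 1]

/-- translations -/
def T (a b : F) : SpecialLinearGroup (Fin 4) F :=
  ⟨Tm m a b, by simp [Tm, Matrix.det_succ_row_zero, Fin.sum_univ_succ]⟩

/-- torus matrices -/
def hm (k : F) : Matrix (Fin 4) (Fin 4) F :=
  !![k * sg m k, 0, 0, 0; 0, k, 0, 0; 0, 0, k⁻¹, 0; 0, 0, 0, (k * sg m k)⁻¹]

/-- torus elements -/
def hh (k : Fˣ) : SpecialLinearGroup (Fin 4) F :=
  ⟨hm m (k : F), by
    have hk : (k : F) ≠ 0 := k.ne_zero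
    have hs : sg m (k : F) ≠ 0 := sg_ne_zero m hk
    simp [hm, Matrix.det_succ_row_zero, Fin.sum_univ_succ]
    field_simp⟩

/-- the matrix of the involution swapping `∞` and `0` -/
def wm : Matrix (Fin 4) (Fin 4) F := !![0, 0, 0, 1; 0, 0, 1, 0; 0, 1, 0, 0; 1, 0, 0, 0]

/-- the involution swapping `∞` and `0` -/
def w : SpecialLinearGroup (Fin 4) F :=
  ⟨wm, by
    have h : (Fin.succAbove (3 : Fin 4) (2 : Fin 3)) = 2 := by decide
    simp [wm, Matrix.det_succ_row_zero, Fin.sum_univ_succ, h]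
    ring⟩

theorem smul_vec (g : SpecialLinearGroup (Fin 4) F) (v : Fin 4 → F) : g • v = g.1 *ᵥ v := rfl

theorem T_e1 (a b : F) : T m a b • (e1 : Fin 4 → F) = e1 := by
  rw [smul_vec]
  ext i
  fin_cases i <;> simp [T, Tm, e1, Matrix.mulVec, dotProduct, Fin.sum_univ_succ]

theorem hh_e1 (k : Fˣ) : hh m k • (e1 : Fin 4 → F) = ((k : F) * sg m (k : F)) • e1 := by
  rw [smul_vec]
  ext i
  fin_cases i <;> simp [hh, hm, e1, Matrix.mulVec, dotProduct, Fin.sum_univ_succ]

theorem w_e1 : (w : SpecialLinearGroup (Fin 4) F) • (e1 : Fin 4 → F) = pt m 0 0 := by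
  rw [smul_vec]
  ext i
  fin_cases i <;> simp [w, wm, e1, pt, Matrix.mulVec, dotProduct, Fin.sum_univ_succ]

theorem w_pt0 : (w : SpecialLinearGroup (Fin 4) F) • pt m (0 : F) 0 = e1 := by
  rw [smul_vec]
  ext i
  fin_cases i <;> simp [w, wm, e1, pt, Matrix.mulVec, dotProduct, Fin.sum_univ_succ]

variable {m}

theorem T_pt (hG : Good F m) (a b x y : F) :
    T m a b • pt m x y = pt m (x + a) (y + b + sg m a * x) := by
  rw [smul_vec]
  ext i
  fin_cases i
  · simp [T, Tm, pt, Matrix.mulVec, dotProduct, Fin.sum_univ_succ, hG.ff_T]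
    ring
  · simp [T, Tm, pt, Matrix.mulVec, dotProduct, Fin.sum_univ_succ]
    ring
  · simp [T, Tm, pt, Matrix.mulVec, dotProduct, Fin.sum_univ_succ]
  · simp [T, Tm, pt, Matrix.mulVec, dotProduct, Fin.sum_univ_succ]

theorem hh_pt (hG : Good F m) (k : Fˣ) (x y : F) :
    hh m k • pt m x y =
      ((k : F) * sg m (k : F))⁻¹ • pt m (sg m (k : F) * x) ((k : F) ^ 2 * sg m (k : F) * y) := by
  have hk : (k : F) ≠ 0 := k.ne_zero
  have hs : sg m (k : F) ≠ 0 := sg_ne_zero m hk
  rw [smul_vec]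
  ext i
  fin_cases i
  · simp [hh, hm, pt, Matrix.mulVec, dotProduct, Fin.sum_univ_succ, hG.ff_h]
    field_simp
  · simp [hh, hm, pt, Matrix.mulVec, dotProduct, Fin.sum_univ_succ]
    field_simp
  · simp [hh, hm, pt, Matrix.mulVec, dotProduct, Fin.sum_univ_succ]
    field_simp
  · simp [hh, hm, pt, Matrix.mulVec, dotProduct, Fin.sum_univ_succ]

theorem w_pt (hG : Good F m) {x y : F} (h : ff m x y ≠ 0) :
    (w : SpecialLinearGroup (Fin 4) F) • pt m x y =
      ff m x y • pt m (y / ff m x y) (x / ff m x y) := by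
  rw [smul_vec]
  ext i
  fin_cases i
  · simp [w, wm, pt, Matrix.mulVec, dotProduct, Fin.sum_univ_succ, hG.ff_w h]
    field_simp
  · simp [w, wm, pt, Matrix.mulVec, dotProduct, Fin.sum_univ_succ]
    field_simp
  · simp [w, wm, pt, Matrix.mulVec, dotProduct, Fin.sum_univ_succ]
    field_simp
  · simp [w, wm, pt, Matrix.mulVec, dotProduct, Fin.sum_univ_succ]

/-! ### action on projective space -/

local notation "∞'" => Cfsg.suzukiPointInfinity F

theorem smul_mk_eq {g : SpecialLinearGroup (Fin 4) F} {v u : Fin 4 → F} (hv : v ≠ 0) (hu : u ≠ 0)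
    {c : F} (h : g • v = c • u) :
    g • Projectivization.mk F v hv = Projectivization.mk F u hu := by
  rw [Projectivization.smul_mk, Projectivization.mk_eq_mk_iff']
  exact ⟨c, h.symm⟩

variable (m) in
theorem T_infty (a b : F) : T m a b • ∞' = ∞' :=
  smul_mk_eq (c := 1) e1_ne_zero e1_ne_zero (by rw [T_e1, one_smul])

variable (m) in
theorem hh_infty (k : Fˣ) : hh m k • ∞' = ∞' :=
  smul_mk_eq e1_ne_zero e1_ne_zero (hh_e1 m k)

variable (m) in
theorem w_infty : (w : SpecialLinearGroup (Fin 4) F) • ∞' = ppt m 0 0 :=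
  smul_mk_eq (c := 1) e1_ne_zero (pt_ne_zero m 0 0) (by rw [w_e1 m, one_smul])

variable (m) in
theorem w_zero : (w : SpecialLinearGroup (Fin 4) F) • ppt m (0 : F) 0 = ∞' :=
  smul_mk_eq (c := 1) (pt_ne_zero m 0 0) e1_ne_zero (by rw [w_pt0 m, one_smul])

theorem T_ppt (hG : Good F m) (a b x y : F) :
    T m a b • ppt m x y = ppt m (x + a) (y + b + sg m a * x) :=
  smul_mk_eq (c := 1) (pt_ne_zero m _ _) (pt_ne_zero m _ _) (by rw [T_pt hG, one_smul])

theorem hh_ppt (hG : Good F m) (k : Fˣ) (x y : F) :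
    hh m k • ppt m x y = ppt m (sg m (k : F) * x) ((k : F) ^ 2 * sg m (k : F) * y) :=
  smul_mk_eq (pt_ne_zero m _ _) (pt_ne_zero m _ _) (hh_pt hG k x y)

theorem w_ppt (hG : Good F m) {x y : F} (h : ff m x y ≠ 0) :
    (w : SpecialLinearGroup (Fin 4) F) • ppt m x y = ppt m (y / ff m x y) (x / ff m x y) :=
  smul_mk_eq (pt_ne_zero m _ _) (pt_ne_zero m _ _) (w_pt hG h)

variable (m) in
theorem finite_ovoid [Finite F] : (Cfsg.suzukiOvoid F m).Finite := by
  have : Finite (Cfsg.suzukiOvoid F m) := Finite.of_equiv _ (ovoidEquiv m)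
  exact Set.toFinite _

theorem mem_Sz_iff [Finite F] (g : SpecialLinearGroup (Fin 4) F) :
    g ∈ Cfsg.Sz F m ↔ ∀ p ∈ Cfsg.suzukiOvoid F m, g • p ∈ Cfsg.suzukiOvoid F m :=
  MulAction.mem_stabilizer_set' (finite_ovoid m)

theorem T_mem [Finite F] (hG : Good F m) (a b : F) : T m a b ∈ Cfsg.Sz F m := by
  rw [mem_Sz_iff]
  intro p hp
  rcases mem_ovoid_cases m hp with rfl | ⟨x, y, rfl⟩
  · rw [T_infty]; exact infty_mem m
  · rw [T_ppt hG]; exact ppt_mem m _ _

theorem hh_mem [Finite F] (hG : Good F m) (k : Fˣ) : hh m k ∈ Cfsg.Sz F m := by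
  rw [mem_Sz_iff]
  intro p hp
  rcases mem_ovoid_cases m hp with rfl | ⟨x, y, rfl⟩
  · rw [hh_infty]; exact infty_mem m
  · rw [hh_ppt hG]; exact ppt_mem m _ _

theorem w_mem [Finite F] (hG : Good F m) : (w : SpecialLinearGroup (Fin 4) F) ∈ Cfsg.Sz F m := by
  rw [mem_Sz_iff]
  intro p hp
  rcases mem_ovoid_cases m hp with rfl | ⟨x, y, rfl⟩
  · rw [w_infty m]; exact ppt_mem m _ _
  · by_cases h : ff m x y = 0
    · obtain ⟨rfl, rfl⟩ := hG.ff_eq_zero.1 h
      rw [w_zero m]; exact infty_mem m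
    · rw [w_ppt hG h]; exact ppt_mem m _ _

theorem smul_mem_ovoid {g : SpecialLinearGroup (Fin 4) F} (hg : g ∈ Cfsg.Sz F m)
    {p : Projectivization F (Fin 4 → F)} (hp : p ∈ Cfsg.suzukiOvoid F m) :
    g • p ∈ Cfsg.suzukiOvoid F m := by
  have h1 : g • Cfsg.suzukiOvoid F m = Cfsg.suzukiOvoid F m := hg
  rw [← h1]
  exact Set.smul_mem_smul_set hp

theorem T_to_zero (hG : Good F m) (x y : F) :
    T m x (y + sg m x * x) • ppt m x y = ppt m 0 0 := by
  rw [T_ppt hG]
  congr 1
  · exact hG.add_self x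
  · linear_combination (y + sg m x * x) * hG.two

theorem T_from_zero (hG : Good F m) (x y : F) : T m x y • ppt m 0 0 = ppt m x y := by
  rw [T_ppt hG]
  congr 1 <;> simp

/-- the group is transitive on the ovoid -/
theorem exists_to_infty [Finite F] (hG : Good F m) {P : Projectivization F (Fin 4 → F)}
    (hP : P ∈ Cfsg.suzukiOvoid F m) : ∃ g ∈ Cfsg.Sz F m, g • P = ∞' := by
  rcases mem_ovoid_cases m hP with rfl | ⟨x, y, rfl⟩
  · exact ⟨1, one_mem _, one_smul _ _⟩
  · exact ⟨w * T m x (y + sg m x * x), mul_mem (w_mem hG) (T_mem hG _ _), by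
      rw [mul_smul, T_to_zero hG, w_zero]⟩

/-- the group is doubly transitive on the ovoid -/
theorem exists_move [Finite F] (hG : Good F m) {P Q : Projectivization F (Fin 4 → F)}
    (hP : P ∈ Cfsg.suzukiOvoid F m) (hQ : Q ∈ Cfsg.suzukiOvoid F m) (hPQ : P ≠ Q) :
    ∃ g ∈ Cfsg.Sz F m, g • P = ∞' ∧ g • Q = ppt m 0 0 := by
  obtain ⟨g, hg, hgP⟩ := exists_to_infty hG hP
  rcases mem_ovoid_cases m (smul_mem_ovoid hg hQ) with h | ⟨x, y, h⟩
  · exact absurd (smul_left_cancel g (hgP.trans h.symm)) hPQ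
  · refine ⟨T m x (y + sg m x * x) * g, mul_mem (T_mem hG _ _) hg, ?_, ?_⟩
    · rw [mul_smul, hgP, T_infty]
    · rw [mul_smul, h, T_to_zero hG]

theorem indep_smul (g : SpecialLinearGroup (Fin 4) F) {ι : Type*}
    {f : ι → Projectivization F (Fin 4 → F)} (h : Projectivization.Independent f) :
    Projectivization.Independent (fun i => g • f i) := by
  obtain ⟨v, hv, hl⟩ := h
  exact Projectivization.Independent.mk (fun i => g • v i)
    (fun i => (smul_ne_zero_iff_ne g).mpr (hv i))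
    (hl.map' (DistribSMul.toLinearMap F (Fin 4 → F) g)
      (LinearMap.ker_eq_bot.2 (MulAction.injective g)))

variable (m) in
theorem indep_base {x y : F} (h : ¬ (x = 0 ∧ y = 0)) :
    Projectivization.Independent ![∞', ppt m 0 0, ppt m x y] := by
  have hl : LinearIndependent F ![e1, pt m 0 0, pt m x y] := by
    rw [Fintype.linearIndependent_iff]
    intro c hc
    have h0 := congrFun hc 0
    have h1 := congrFun hc 1
    have h2 := congrFun hc 2
    have h3 := congrFun hc 3
    simp [Fin.sum_univ_succ, e1, pt] at h0 h1 h2 h3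
    have hc2 : c 2 = 0 := by
      rcases h1 with h1 | h1
      · exact h1
      · rcases h2 with h2 | h2
        · exact h2
        · exact absurd ⟨h2, h1⟩ h
    rw [hc2] at h0 h3
    simp at h0 h3
    intro i
    fin_cases i
    · exact h0
    · exact h3
    · exact hc2
  have hne : ∀ i : Fin 3, (![e1, pt m 0 0, pt m x y] : Fin 3 → Fin 4 → F) i ≠ 0 := by
    intro i
    fin_cases i
    · exact e1_ne_zero
    · exact pt_ne_zero m 0 0
    · exact pt_ne_zero m x y
  have := Projectivization.Independent.mk _ hne hl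
  convert this using 1
  funext i
  fin_cases i <;> rfl

/-- no three points of the ovoid are collinear -/
theorem indep_three [Finite F] (hG : Good F m) (p : Fin 3 ↪ Cfsg.suzukiOvoid F m) :
    Projectivization.Independent (fun i => (p i : Projectivization F (Fin 4 → F))) := by
  have hne : ∀ i j : Fin 3, i ≠ j → (p i : Projectivization F (Fin 4 → F)) ≠ p j :=
    fun i j hij h => hij (p.injective (Subtype.ext h))
  obtain ⟨g, hg, h0, h1⟩ := exists_move hG (p 0).2 (p 1).2 (hne 0 1 (by decide))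
  rcases mem_ovoid_cases m (smul_mem_ovoid hg (p 2).2) with h2 | ⟨x, y, h2⟩
  · exact absurd (smul_left_cancel g (h0.trans h2.symm)) (hne 0 2 (by decide))
  · have hxy : ¬ (x = 0 ∧ y = 0) := by
      rintro ⟨rfl, rfl⟩
      exact absurd (smul_left_cancel g (h1.trans h2.symm)) (hne 1 2 (by decide))
    have h3 := indep_smul g⁻¹ (indep_base m hxy)
    convert h3 using 1
    funext i
    fin_cases i
    · simp only [Fin.zero_eta, Fin.isValue, Matrix.cons_val_zero]
      rw [← h0, inv_smul_smul]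
    · simp only [Fin.mk_one, Fin.isValue, Matrix.cons_val_one, Matrix.cons_val_zero]
      rw [← h1, inv_smul_smul]
    · simp only [Fin.reduceFinMk, Fin.isValue, Matrix.cons_val]
      rw [← h2, inv_smul_smul]

end Cfsg.Agent.Lib.Helper29.Sz
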