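import Cfsg.Agent.Lib.Helper29.SzMore
import Cfsg.Prelude.Def_Sz

set_option autoImplicit false

namespace Cfsg.Agent.Lib.Helper29.Sz

open Matrix

variable {F : Type*} [Field F] {m : ℕ}

theorem altForm4_eq (u v : Fin 4 → F) :
    Cfsg.Lie.altForm4 u v = u ⬝ᵥ (Cfsg.suzukiForm F *ᵥ v) := by
  simp [Cfsg.Lie.altForm4, Cfsg.suzukiForm, dotProduct, Matrix.mulVec, Fin.sum_univ_succ]
  ring

theorem mem_Sp4_iff (g : GL (Fin 4) F) :
    g ∈ Cfsg.Lie.Sp4 F ↔ (g : Matrix (Fin 4) (Fin 4) F)ᵀ * Cfsg.suzukiForm F * (g : Matrix (Fin 4) (Fin 4) F) = Cfsg.suzukiForm F := by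
  have key : ∀ u v : Fin 4 → F,
      Cfsg.Lie.altForm4 ((g : Matrix (Fin 4) (Fin 4) F) *ᵥ u) ((g : Matrix (Fin 4) (Fin 4) F) *ᵥ v) =
      u ⬝ᵥ (((g : Matrix (Fin 4) (Fin 4) F)ᵀ * Cfsg.suzukiForm F * (g : Matrix (Fin 4) (Fin 4) F)) *ᵥ v) := by
    intro u v
    rw [altForm4_eq, Matrix.dotProduct_mulVec, Matrix.vecMul_mulVec, ← Matrix.dotProduct_mulVec,
      ← Matrix.mulVec_mulVec, ← Matrix.mulVec_mulVec]
    simp only [Matrix.mulVec_mulVec, Matrix.mul_assoc]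
  constructor
  · intro h
    have h' : ∀ u v : Fin 4 → F,
      Cfsg.Lie.altForm4 ((g : Matrix (Fin 4) (Fin 4) F) *ᵥ u) ((g : Matrix (Fin 4) (Fin 4) F) *ᵥ v) =
        Cfsg.Lie.altForm4 u v := h
    ext i j
    have := h' (Pi.single i 1) (Pi.single j 1)
    rw [key, altForm4_eq] at this
    simpa using this
  · intro h u v
    show Cfsg.Lie.altForm4 ((g : Matrix (Fin 4) (Fin 4) F) *ᵥ u) ((g : Matrix (Fin 4) (Fin 4) F) *ᵥ v) =
        Cfsg.Lie.altForm4 u v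
    rw [key, h, altForm4_eq]

theorem form_sq : Cfsg.suzukiForm F * Cfsg.suzukiForm F = 1 := by
  ext i j
  fin_cases i <;> fin_cases j <;> simp [Cfsg.suzukiForm, Matrix.mul_apply, Fin.sum_univ_succ]

/-- the transposed form relation -/
theorem form_transpose {g : Matrix (Fin 4) (Fin 4) F}
    (h : gᵀ * Cfsg.suzukiForm F * g = Cfsg.suzukiForm F) :
    g * Cfsg.suzukiForm F * gᵀ = Cfsg.suzukiForm F := by
  have h1 : (Cfsg.suzukiForm F * gᵀ * Cfsg.suzukiForm F) * g = 1 := by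
    rw [Matrix.mul_assoc, Matrix.mul_assoc, ← Matrix.mul_assoc gᵀ, h, form_sq]
  have h2 : g * (Cfsg.suzukiForm F * gᵀ * Cfsg.suzukiForm F) = 1 := mul_eq_one_comm.1 h1
  calc g * Cfsg.suzukiForm F * gᵀ
      = g * (Cfsg.suzukiForm F * gᵀ * Cfsg.suzukiForm F) * Cfsg.suzukiForm F := by
        simp only [Matrix.mul_assoc, form_sq, Matrix.mul_one]
    _ = Cfsg.suzukiForm F := by rw [h2, Matrix.one_mul]

theorem det_eq_one (hG : Good F m) {g : Matrix (Fin 4) (Fin 4) F}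
    (h : gᵀ * Cfsg.suzukiForm F * g = Cfsg.suzukiForm F) : g.det = 1 := by
  have h1 := congrArg Matrix.det h
  rw [Matrix.det_mul, Matrix.det_mul, Matrix.det_transpose] at h1
  have h2 : (Cfsg.suzukiForm F).det * (Cfsg.suzukiForm F).det = 1 := by
    rw [← Matrix.det_mul, form_sq, Matrix.det_one]
  have h3 : g.det * g.det = 1 := by
    have : g.det * g.det * ((Cfsg.suzukiForm F).det * (Cfsg.suzukiForm F).det) =
        (Cfsg.suzukiForm F).det * (Cfsg.suzukiForm F).det := by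
      linear_combination (Cfsg.suzukiForm F).det * h1
    rwa [h2, mul_one] at this
  have h4 : (g.det + 1) ^ 2 = 0 := by linear_combination h3 + (g.det + 1) * hG.two
  have h5 : g.det + 1 = 0 := by simpa using h4
  exact hG.eq_of_add_eq_zero h5

/-- the Plücker-type coordinates of a pair of vectors -/
def LL (u v : Fin 4 → F) : Fin 4 → F :=
  ![u 0 * v 1 - u 1 * v 0, u 0 * v 2 - u 2 * v 0, u 1 * v 3 - u 3 * v 1, u 2 * v 3 - u 3 * v 2]

theorem minor_identity (two : (2 : F) = 0) (a0 a1 a2 a3 b0 b1 b2 b3 u0 u1 u2 u3 v0 v1 v2 v3 : F)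
    (hJ : a0 * b3 + a1 * b2 + a2 * b1 + a3 * b0 = 0)
    (hB : u0 * v3 + u1 * v2 + u2 * v1 + u3 * v0 = 0) :
    (a0 * u0 + a1 * u1 + a2 * u2 + a3 * u3) * (b0 * v0 + b1 * v1 + b2 * v2 + b3 * v3) -
      (b0 * u0 + b1 * u1 + b2 * u2 + b3 * u3) * (a0 * v0 + a1 * v1 + a2 * v2 + a3 * v3) =
    (a0 * b1 - b0 * a1) * (u0 * v1 - u1 * v0) + (a0 * b2 - b0 * a2) * (u0 * v2 - u2 * v0) +
      (a1 * b3 - b1 * a3) * (u1 * v3 - u3 * v1) + (a2 * b3 - b2 * a3) * (u2 * v3 - u3 * v2) := by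
  linear_combination (a0 * b3 - b0 * a3) * hB + (u1 * v2 - u2 * v1) * hJ +
    (-(a0 * b3 - b0 * a3) * (u3 * v0 + u2 * v1) - (b0 * a3 + b1 * a2) * (u1 * v2 - u2 * v1)
      - (a0 * b3 - b0 * a3) * (u1 * v2 - u2 * v1)) * two

theorem LL_mulVec (hG : Good F m) {g : Matrix (Fin 4) (Fin 4) F}
    (h : gᵀ * Cfsg.suzukiForm F * g = Cfsg.suzukiForm F) {u v : Fin 4 → F}
    (hB : Cfsg.Lie.altForm4 u v = 0) :
    LL (g *ᵥ u) (g *ᵥ v) = Cfsg.Lie.star4 g *ᵥ LL u v := by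
  have hJ := form_transpose h
  have hJ' : ∀ k l : Fin 4, g k 0 * g l 3 + g k 1 * g l 2 + g k 2 * g l 1 + g k 3 * g l 0 =
      Cfsg.suzukiForm F k l := by
    intro k l
    rw [← hJ]
    simp [Cfsg.suzukiForm, Matrix.mul_apply, Fin.sum_univ_succ]
    ring
  have hB' : u 0 * v 3 + u 1 * v 2 + u 2 * v 1 + u 3 * v 0 = 0 := hB
  ext p
  fin_cases p
  · have := minor_identity hG.two (g 0 0) (g 0 1) (g 0 2) (g 0 3) (g 1 0) (g 1 1) (g 1 2) (g 1 3)
      (u 0) (u 1) (u 2) (u 3) (v 0) (v 1) (v 2) (v 3) (by rw [hJ']; simp [Cfsg.suzukiForm]) hB'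
    simp [LL, Cfsg.Lie.star4, Cfsg.Lie.pairOf, Matrix.mulVec, dotProduct, Fin.sum_univ_succ]
    linear_combination this
  · have := minor_identity hG.two (g 0 0) (g 0 1) (g 0 2) (g 0 3) (g 2 0) (g 2 1) (g 2 2) (g 2 3)
      (u 0) (u 1) (u 2) (u 3) (v 0) (v 1) (v 2) (v 3) (by rw [hJ']; simp [Cfsg.suzukiForm]) hB'
    simp [LL, Cfsg.Lie.star4, Cfsg.Lie.pairOf, Matrix.mulVec, dotProduct, Fin.sum_univ_succ]
    linear_combination this
  · have := minor_identity hG.two (g 1 0) (g 1 1) (g 1 2) (g 1 3) (g 3 0) (g 3 1) (g 3 2) (g 3 3)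
      (u 0) (u 1) (u 2) (u 3) (v 0) (v 1) (v 2) (v 3) (by rw [hJ']; simp [Cfsg.suzukiForm]) hB'
    simp [LL, Cfsg.Lie.star4, Cfsg.Lie.pairOf, Matrix.mulVec, dotProduct, Fin.sum_univ_succ]
    linear_combination this
  · have := minor_identity hG.two (g 2 0) (g 2 1) (g 2 2) (g 2 3) (g 3 0) (g 3 1) (g 3 2) (g 3 3)
      (u 0) (u 1) (u 2) (u 3) (v 0) (v 1) (v 2) (v 3) (by rw [hJ']; simp [Cfsg.suzukiForm]) hB'
    simp [LL, Cfsg.Lie.star4, Cfsg.Lie.pairOf, Matrix.mulVec, dotProduct, Fin.sum_univ_succ]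
    linear_combination this

variable (m) in
/-- `v` is a companion of `u`: the line `⟨u, v⟩` is totally isotropic and corresponds to `u` -/
def Comp (u v : Fin 4 → F) : Prop :=
  Cfsg.Lie.altForm4 u v = 0 ∧ LL u v = fun i => sg m (u i)

theorem comp_e1 : Comp m (e1 : Fin 4 → F) ![0, 1, 0, 0] := by
  refine ⟨by simp [Cfsg.Lie.altForm4, e1], ?_⟩
  ext i
  fin_cases i <;> simp [LL, e1]

theorem comp_pt (hG : Good F m) (x y : F) :
    Comp m (pt m x y) ![y + sg m x * x, sg m x, 1, 0] := by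
  refine ⟨?_, ?_⟩
  · simp [Cfsg.Lie.altForm4, pt]
    linear_combination (y + sg m x * x) * hG.two
  · ext i
    fin_cases i
    · simp [LL, pt]
      rw [hG.sg_ff, ff_eq]
      linear_combination (-y ^ 2) * hG.two
    · simp [LL, pt]
      rw [ff_eq]
      ring
    · simp [LL, pt]
      linear_combination (-sg m x) * hG.two
    · simp [LL, pt]
      linear_combination (-1 : F) * hG.two

theorem sg_mulVec (hG : Good F m) (g : Matrix (Fin 4) (Fin 4) F) (u : Fin 4 → F) :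
    (fun i => sg m ((g *ᵥ u) i)) = (g.map (fun x => x ^ (2 ^ (m + 1)))) *ᵥ (fun i => sg m (u i)) := by
  ext i
  simp only [Matrix.mulVec, dotProduct, Fin.sum_univ_succ, Fin.sum_univ_zero, hG.sg_add, sg_mul,
    Matrix.map_apply, sg_zero]
  rfl

theorem comp_mulVec (hG : Good F m) {g : Matrix (Fin 4) (Fin 4) F}
    (h : gᵀ * Cfsg.suzukiForm F * g = Cfsg.suzukiForm F)
    (hs : Cfsg.Lie.star4 g = g.map (fun x => x ^ (2 ^ (m + 1)))) {u v : Fin 4 → F}
    (hc : Comp m u v) : Comp m (g *ᵥ u) (g *ᵥ v) := by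
  refine ⟨?_, ?_⟩
  · rw [← hc.1, altForm4_eq, altForm4_eq, Matrix.dotProduct_mulVec, Matrix.vecMul_mulVec,
      ← Matrix.dotProduct_mulVec, ← Matrix.mulVec_mulVec, Matrix.mulVec_mulVec, Matrix.mulVec_mulVec,
      Matrix.mul_assoc, ← Matrix.mul_assoc, h]
  · rw [LL_mulVec hG h hc.1, hc.2, sg_mulVec hG, hs]

theorem mem_ovoid_of_comp (hG : Good F m) {u v : Fin 4 → F} (hu : u ≠ 0) (hc : Comp m u v) :
    Projectivization.mk F u hu ∈ Cfsg.suzukiOvoid F m := by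
  obtain ⟨hB, hL⟩ := hc
  have hB' : u 0 * v 3 + u 1 * v 2 + u 2 * v 1 + u 3 * v 0 = 0 := hB
  have E1 : u 0 * v 1 - u 1 * v 0 = sg m (u 0) := congrFun hL 0
  have E2 : u 0 * v 2 - u 2 * v 0 = sg m (u 1) := congrFun hL 1
  have E3 : u 1 * v 3 - u 3 * v 1 = sg m (u 2) := congrFun hL 2
  have E4 : u 2 * v 3 - u 3 * v 2 = sg m (u 3) := congrFun hL 3
  rw [mem_ovoid_iff]
  by_cases h3 : u 3 = 0
  · rw [h3, sg_zero, zero_mul, sub_zero] at E4
    rw [h3, zero_mul, sub_zero] at E3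
    rw [h3, zero_mul, add_zero] at hB'
    have h2 : u 2 = 0 := by
      by_contra h2
      have hv3 : v 3 = 0 := (mul_eq_zero.1 E4).resolve_left h2
      rw [hv3, mul_zero] at E3
      exact sg_ne_zero m h2 E3.symm
    rw [h2, sg_zero] at E3
    rw [h2, zero_mul, sub_zero] at E2
    rw [h2, zero_mul, add_zero] at hB'
    have h1 : u 1 = 0 := by
      by_contra h1
      have hv3 : v 3 = 0 := (mul_eq_zero.1 E3).resolve_left h1
      rw [hv3, mul_zero, zero_add] at hB'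
      have hv2 : v 2 = 0 := (mul_eq_zero.1 hB').resolve_left h1
      rw [hv2, mul_zero] at E2
      exact sg_ne_zero m h1 E2.symm
    have h0 : u 0 ≠ 0 := by
      intro h0
      apply hu
      ext i
      fin_cases i
      · exact h0
      · exact h1
      · exact h2
      · exact h3
    refine ⟨u 0, h0, Or.inl ?_⟩
    ext i
    fin_cases i
    · simp [e1]
    · simpa [e1] using h1
    · simpa [e1] using h2
    · simpa [e1] using h3
  · refine ⟨u 3, h3, Or.inr ⟨u 2 / u 3, u 1 / u 3, ?_⟩⟩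
    have hs3 : sg m (u 3) ≠ 0 := sg_ne_zero m h3
    have key : u 0 * u 3 * sg m (u 3) =
        u 1 * u 2 * sg m (u 3) + sg m (u 2) * u 2 ^ 2 + sg m (u 1) * u 3 ^ 2 := by
      rw [← E2, ← E3, ← E4]
      linear_combination (u 2 * u 3) * hB' + (-(u 0 * u 3 ^ 2 * v 2) - u 1 * u 2 ^ 2 * v 3) * hG.two
    ext i
    fin_cases i
    · simp only [pt, ff_eq, sg_div, Pi.smul_apply, smul_eq_mul]
      show u 0 = _
      simp
      field_simp
      linear_combination key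
    · simp [pt]
      field_simp
    · simp [pt]
      field_simp
    · simp [pt]

theorem star_T (hG : Good F m) (a b : F) :
    Cfsg.Lie.star4 (Tm m a b) = (Tm m a b).map (fun x => x ^ (2 ^ (m + 1))) := by
  have e : ∀ x : F, x ^ (2 ^ (m + 1)) = sg m x := fun x => rfl
  ext i j
  fin_cases i <;> fin_cases j <;>
    simp [Cfsg.Lie.star4, Cfsg.Lie.pairOf, Tm, e, hG.sg_add, sg_mul, hG.sgsg, hG.sg_ff]
  · rw [ff_eq]; linear_combination (-(sg m a * a ^ 2) - sg m b) * hG.two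
  · rw [ff_eq]; linear_combination (-(sg m a * sg m b) - sg m a ^ 2 * a ^ 2) * hG.two
  · ring
  · rw [ff_eq]; linear_combination (-sg m b) * hG.two

theorem star_h (hG : Good F m) (k : Fˣ) :
    Cfsg.Lie.star4 (hm m (k : F)) = (hm m (k : F)).map (fun x => x ^ (2 ^ (m + 1))) := by
  have e : ∀ x : F, x ^ (2 ^ (m + 1)) = sg m x := fun x => rfl
  have hk : (k : F) ≠ 0 := k.ne_zero
  have hs : sg m (k : F) ≠ 0 := sg_ne_zero m hk
  ext i j
  fin_cases i <;> fin_cases j <;>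
    simp [Cfsg.Lie.star4, Cfsg.Lie.pairOf, hm, e, sg_mul, hG.sgsg, sg_inv]
  all_goals (field_simp)

theorem star_w (hG : Good F m) :
    Cfsg.Lie.star4 (wm : Matrix (Fin 4) (Fin 4) F) = (wm : Matrix (Fin 4) (Fin 4) F).map (fun x => x ^ (2 ^ (m + 1))) := by
  ext i j
  fin_cases i <;> fin_cases j <;>
    simp [Cfsg.Lie.star4, Cfsg.Lie.pairOf, wm]
  all_goals (linear_combination (-1 : F) * hG.two)

/-- the two descriptions of the Suzuki group agree -/
theorem lieSz_eq_map [Finite F] (hG : Good F m) (hex : ∃ t : F, t ≠ 0 ∧ t ≠ 1) :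
    Cfsg.Lie.Sz F (2 ^ (m + 1)) = (Cfsg.Sz F m).map Matrix.SpecialLinearGroup.toGL := by
  apply le_antisymm
  · unfold Cfsg.Lie.Sz
    rw [Subgroup.closure_le]
    rintro g ⟨hsp, hstar⟩
    have hform := (mem_Sp4_iff g).1 hsp
    let g' : Matrix.SpecialLinearGroup (Fin 4) F :=
      ⟨(g : Matrix (Fin 4) (Fin 4) F), det_eq_one hG hform⟩
    refine ⟨g', ?_, ?_⟩
    · show g' ∈ Cfsg.Sz F m
      rw [mem_Sz_iff]
      intro p hp
      rcases mem_ovoid_cases m hp with rfl | ⟨x, y, rfl⟩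
      · show _ • Projectivization.mk F e1 e1_ne_zero ∈ _
        rw [Projectivization.smul_mk]
        exact mem_ovoid_of_comp hG _ (comp_mulVec hG hform hstar comp_e1)
      · unfold ppt
        rw [Projectivization.smul_mk]
        exact mem_ovoid_of_comp hG _ (comp_mulVec hG hform hstar (comp_pt hG x y))
    · apply Units.ext
      rfl
  · rw [Subgroup.map_le_iff_le_comap]
    refine (Sz_le_Gen hG hex).trans ?_
    unfold Gen
    rw [Subgroup.closure_le]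
    rintro g ((⟨a, b, rfl⟩ | ⟨k, rfl⟩) | rfl)
    · apply Subgroup.subset_closure
      exact ⟨(mem_Sp4_iff _).2 (Gen_le_form hG (T_mem_Gen a b)), star_T hG a b⟩
    · apply Subgroup.subset_closure
      exact ⟨(mem_Sp4_iff _).2 (Gen_le_form hG (hh_mem_Gen k)), star_h hG k⟩
    · apply Subgroup.subset_closure
      exact ⟨(mem_Sp4_iff _).2 (Gen_le_form hG w_mem_Gen), star_w hG⟩

/-- the isomorphism between the two descriptions of the Suzuki group -/
noncomputable def lieEquiv [Finite F] (hG : Good F m) (hex : ∃ t : F, t ≠ 0 ∧ t ≠ 1) :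
    Cfsg.Sz F m ≃* Cfsg.Lie.Sz F (2 ^ (m + 1)) :=
  ((Cfsg.Sz F m).equivMapOfInjective _ Matrix.SpecialLinearGroup.toGL_injective).trans
    (MulEquiv.subgroupCongr (lieSz_eq_map hG hex).symm)

end Cfsg.Agent.Lib.Helper29.Sz
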