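import Cfsg.Agent.Lib.Helper29.SzSimple

set_option autoImplicit false

namespace Cfsg.Agent.Lib.Helper29.Sz

open Matrix
open scoped Pointwise commutatorElement

variable {F : Type*} [Field F] {m : ℕ}

section

variable [Finite F] (hG : Good F m) (hex : ∃ t : F, t ≠ 0 ∧ t ≠ 1)

local notation "∞'" => Cfsg.suzukiPointInfinity F

/-- the point stabiliser normalises the unipotent subgroup -/
theorem conj_mem_Usub {y : Cfsg.Sz F m} (hy : y.1 • ∞' = ∞') {u : Cfsg.Sz F m}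
    (hu : u ∈ Usub hG hex) : y * u * y⁻¹ ∈ Usub hG hex := by
  obtain ⟨c, d, k, hyf⟩ := stab_infty_form hG hex y.2 hy
  obtain ⟨a, b, huf⟩ := hu
  have h1 : y.1 * u.1 * y.1⁻¹ =
      T m c d * T m (sg m (k : F) * a) ((k : F) ^ 2 * sg m (k : F) * b) * (T m c d)⁻¹ := by
    rw [hyf, huf, mul_assoc (T m c d), hh_T hG hex]
    group
  rw [T_inv hG hex, T_mul hG hex, T_mul hG hex] at h1
  exact ⟨_, _, h1⟩

include hG in
omit [Finite F] in
theorem T_fix_only {a b x y : F} (h : ¬ (a = 0 ∧ b = 0)) : T m a b • ppt m x y ≠ ppt m x y := by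
  intro he
  rw [T_ppt hG] at he
  obtain ⟨h1, h2⟩ := ppt_inj m he
  have ha : a = 0 := by linear_combination h1
  subst ha
  apply h
  refine ⟨rfl, ?_⟩
  simp only [sg_zero, zero_mul, add_zero] at h2
  linear_combination h2

/-- a subgroup containing the unipotent subgroup and moving `∞` is everything -/
theorem eq_top_of_Usub_le (L : Subgroup (Cfsg.Sz F m)) (hU : Usub hG hex ≤ L)
    {g : Cfsg.Sz F m} (hgL : g ∈ L) (hg : g.1 • ∞' ≠ ∞') : L = ⊤ := by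
  have hT : ∀ a b : F, (⟨T m a b, T_mem hG a b⟩ : Cfsg.Sz F m) ∈ L := fun a b => hU ⟨a, b, rfl⟩
  -- `w U w⁻¹ ≤ L`
  have hwU : ∀ u ∈ Usub hG hex, (⟨w, w_mem hG⟩ : Cfsg.Sz F m) * u * (⟨w, w_mem hG⟩ : Cfsg.Sz F m)⁻¹ ∈ L := by
    intro u hu
    rcases mem_ovoid_cases m (smul_mem_ovoid g.2 (infty_mem m)) with h | ⟨a, b, h⟩
    · exact absurd h hg
    · set g₁ : Cfsg.Sz F m := (⟨T m a b, T_mem hG a b⟩ : Cfsg.Sz F m)⁻¹ * g with hg₁
      have hg₁L : g₁ ∈ L := L.mul_mem (L.inv_mem (hT a b)) hgL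
      have hg₁0 : g₁.1 • ∞' = ppt m 0 0 := by
        show ((T m a b)⁻¹ * g.1) • ∞' = ppt m 0 0
        rw [mul_smul, h, inv_smul_eq_iff, T_from_zero hG]
      set b₁ : Cfsg.Sz F m := (⟨w, w_mem hG⟩ : Cfsg.Sz F m)⁻¹ * g₁ with hb₁
      have hb₁inf : b₁⁻¹.1 • ∞' = ∞' := by
        show (w⁻¹ * g₁.1)⁻¹ • ∞' = ∞'
        rw [inv_smul_eq_iff, mul_smul, hg₁0, eq_inv_smul_iff, w_infty m]
      have h2 := conj_mem_Usub hG hex hb₁inf hu
      have h3 : (⟨w, w_mem hG⟩ : Cfsg.Sz F m) * u * (⟨w, w_mem hG⟩ : Cfsg.Sz F m)⁻¹ =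
          g₁ * (b₁⁻¹ * u * b₁⁻¹⁻¹) * g₁⁻¹ := by
        rw [hb₁]; group
      rw [h3]
      exact L.mul_mem (L.mul_mem hg₁L (hU h2)) (L.inv_mem hg₁L)
  -- all conjugates of `U` lie in `L`
  have hconj : ∀ (y : Cfsg.Sz F m), ∀ u ∈ Usub hG hex, y * u * y⁻¹ ∈ L := by
    intro y u hu
    rcases mem_ovoid_cases m (smul_mem_ovoid y.2 (infty_mem m)) with h | ⟨a, b, h⟩
    · exact hU (conj_mem_Usub hG hex h hu)
    · set z : Cfsg.Sz F m := (⟨w, w_mem hG⟩ : Cfsg.Sz F m)⁻¹ *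
        ((⟨T m a b, T_mem hG a b⟩ : Cfsg.Sz F m)⁻¹ * y) with hz
      have hzinf : z.1 • ∞' = ∞' := by
        show (w⁻¹ * ((T m a b)⁻¹ * y.1)) • ∞' = ∞'
        rw [mul_smul, mul_smul, h, inv_smul_eq_iff, inv_smul_eq_iff, w_infty m, T_from_zero hG]
      have h2 := hwU _ (conj_mem_Usub hG hex hzinf hu)
      have h3 : y * u * y⁻¹ = (⟨T m a b, T_mem hG a b⟩ : Cfsg.Sz F m) *
          ((⟨w, w_mem hG⟩ : Cfsg.Sz F m) * (z * u * z⁻¹) * (⟨w, w_mem hG⟩ : Cfsg.Sz F m)⁻¹) *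
          (⟨T m a b, T_mem hG a b⟩ : Cfsg.Sz F m)⁻¹ := by
        rw [hz]; group
      rw [h3]
      exact L.mul_mem (L.mul_mem (hT a b) h2) (L.inv_mem (hT a b))
  have hnc : Subgroup.normalClosure (Usub hG hex : Set (Cfsg.Sz F m)) = ⊤ := by
    apply eq_top_of_T_mem hG hex _ Subgroup.normalClosure_normal
    intro a b
    exact Subgroup.subset_normalClosure ⟨a, b, rfl⟩
  rw [eq_top_iff, ← hnc]
  unfold Subgroup.normalClosure
  rw [Subgroup.closure_le]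
  intro x hx
  obtain ⟨u, hu, hc⟩ := Group.mem_conjugatesOfSet_iff.1 hx
  obtain ⟨y, hy⟩ := isConj_iff.1 hc
  rw [← hy]
  exact hconj y u hu

/-- the normaliser of the unipotent subgroup is the point stabiliser -/
theorem normalizer_Usub :
    Subgroup.normalizer (Usub hG hex : Set (Cfsg.Sz F m)) =
      MulAction.stabilizer (Cfsg.Sz F m) (⟨_, infty_mem m⟩ : Cfsg.suzukiOvoid F m) := by
  ext y
  rw [MulAction.mem_stabilizer_iff]
  constructor
  · intro hy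
    have h1 : y⁻¹ * (⟨T m 1 0, T_mem hG 1 0⟩ : Cfsg.Sz F m) * y⁻¹⁻¹ ∈ Usub hG hex :=
      (Subgroup.mem_normalizer_iff.1 (inv_mem hy) _).1 ⟨1, 0, rfl⟩
    obtain ⟨a, b, hab⟩ := h1
    have h2 : y.1⁻¹ * T m 1 0 * y.1 = T m a b := by
      rw [← hab]
      show _ = y.1⁻¹ * T m 1 0 * y.1⁻¹⁻¹
      rw [inv_inv]
    have h3 : T m (1 : F) 0 • (y.1 • ∞') = y.1 • ∞' := by
      have h4 : T m (1 : F) 0 * y.1 = y.1 * T m a b := by
        rw [← h2]; group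
      rw [← mul_smul, h4, mul_smul, T_infty]
    apply Subtype.ext
    rcases mem_ovoid_cases m (smul_mem_ovoid y.2 (infty_mem m)) with h | ⟨c, d, h⟩
    · exact h
    · rw [h] at h3
      exact absurd h3 (T_fix_only hG (by simp))
  · intro hy
    have hy' : y.1 • ∞' = ∞' := congrArg Subtype.val hy
    have hy'' : y⁻¹.1 • ∞' = ∞' := by
      show y.1⁻¹ • ∞' = ∞'
      rw [inv_smul_eq_iff, hy']
    rw [Subgroup.mem_normalizer_iff]
    intro u
    constructor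
    · exact conj_mem_Usub hG hex hy'
    · intro hu
      have := conj_mem_Usub hG hex hy'' hu
      have h3 : y⁻¹ * (y * u * y⁻¹) * y⁻¹⁻¹ = u := by group
      rwa [h3] at this

/-- the unipotent subgroup as a Sylow subgroup -/
theorem exists_sylow_eq [Fintype F] {n : ℕ} (hn : 1 ≤ n) (hF : Fintype.card F = 2 ^ n) :
    ∃ Q : Sylow 2 (Cfsg.Sz F m), (Q : Subgroup (Cfsg.Sz F m)) = Usub hG hex := by
  have : Fact (Nat.Prime 2) := ⟨Nat.prime_two⟩
  have hp : IsPGroup 2 (Usub hG hex) := by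
    apply IsPGroup.of_card (n := 2 * n)
    rw [card_Usub, hF]; ring
  have hidx : ¬ 2 ∣ (Usub hG hex).index := by
    have h1 := Subgroup.card_mul_index (Usub hG hex)
    rw [card_Usub, card_Sz hG hex, mul_assoc] at h1
    have h2 : (Usub hG hex).index = (Fintype.card F ^ 2 + 1) * (Fintype.card F - 1) :=
      Nat.eq_of_mul_eq_mul_left (by positivity) h1
    rw [h2, hF]
    have h3 : 2 ∣ 2 ^ n := dvd_pow_self 2 (by omega)
    have h4 : 1 ≤ 2 ^ n := Nat.one_le_two_pow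
    intro h
    rcases (Nat.Prime.dvd_mul Nat.prime_two).1 h with h | h
    · have h5 : 2 ∣ (2 ^ n) ^ 2 := Dvd.dvd.pow h3 (by norm_num)
      have := (Nat.dvd_add_right h5).1 h
      omega
    · omega
  exact ⟨hp.toSylow hidx, rfl⟩

/-- every Sylow `2`-subgroup is a conjugate of the unipotent subgroup -/
theorem sylow_conj [Fintype F] {n : ℕ} (hn : 1 ≤ n) (hF : Fintype.card F = 2 ^ n)
    (P : Sylow 2 (Cfsg.Sz F m)) :
    ∃ x : Cfsg.Sz F m, (P : Subgroup (Cfsg.Sz F m)) = (Usub hG hex).map (MulAut.conj x).toMonoidHom := by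
  have : Fact (Nat.Prime 2) := ⟨Nat.prime_two⟩
  obtain ⟨Q, hQ⟩ := exists_sylow_eq hG hex hn hF
  obtain ⟨x, hx⟩ := MulAction.exists_smul_eq (Cfsg.Sz F m) Q P
  refine ⟨x, ?_⟩
  rw [← hx, Sylow.coe_subgroup_smul, hQ]
  rfl

end

end Cfsg.Agent.Lib.Helper29.Sz
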