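import Cfsg.Agent.Lib.Helper29.SzSylow
import Cfsg.Agent.S0319
import Cfsg.Agent.S0323

set_option autoImplicit false

namespace Cfsg.Agent.Lib.Helper29.Sz

open Matrix
open scoped Pointwise commutatorElement

variable {F : Type*} [Field F] {m : ℕ}

theorem entry11 (a b : F) (k : Fˣ) : (T m a b * hh m k).1 1 1 = (k : F) := by
  show (Tm m a b * hm m (k : F)) 1 1 = k
  simp [Tm, hm, Matrix.mul_apply, Fin.sum_univ_succ]

theorem hh_w (k : Fˣ) : hh m k * w = w * hh m k⁻¹ := by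
  apply Subtype.ext
  show hm m (k : F) * wm = wm * hm m ((k⁻¹ : Fˣ) : F)
  ext i j
  fin_cases i <;> fin_cases j <;>
    simp [hm, wm, Matrix.mul_apply, Fin.sum_univ_succ, sg_inv, mul_comm]

section

variable [Finite F] (hG : Good F m) (hex : ∃ t : F, t ≠ 0 ∧ t ≠ 1)
include hG hex

theorem form_mul (a b c d : F) (k k' : Fˣ) :
    (T m a b * hh m k) * (T m c d * hh m k') =
      T m (a + sg m (k : F) * c) (b + (k : F) ^ 2 * sg m (k : F) * d + sg m a * (sg m (k : F) * c)) *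
        hh m (k * k') := by
  rw [mul_assoc, ← mul_assoc (hh m k), hh_T hG hex, mul_assoc, ← hh_mul, ← mul_assoc, T_mul hG hex]

/-- the point stabiliser is solvable -/
theorem solvable_stab :
    Group.IsSolvable (MulAction.stabilizer (Cfsg.Sz F m)
      (⟨_, infty_mem m⟩ : Cfsg.suzukiOvoid F m)) := by
  have hform : ∀ g : MulAction.stabilizer (Cfsg.Sz F m) (⟨_, infty_mem m⟩ : Cfsg.suzukiOvoid F m),
      ∃ (a b : F) (k : Fˣ), g.1.1 = T m a b * hh m k := by
    intro g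
    exact stab_infty_form hG hex g.1.2 (congrArg Subtype.val g.2)
  let ψ : MulAction.stabilizer (Cfsg.Sz F m) (⟨_, infty_mem m⟩ : Cfsg.suzukiOvoid F m) →* F :=
    { toFun := fun g => g.1.1.1 1 1
      map_one' := by
        show (1 : Matrix (Fin 4) (Fin 4) F) 1 1 = 1
        simp
      map_mul' := by
        intro g g'
        obtain ⟨a, b, k, hg⟩ := hform g
        obtain ⟨c, d, k', hg'⟩ := hform g'
        show (g.1.1 * g'.1.1).1 1 1 = g.1.1.1 1 1 * g'.1.1.1 1 1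
        rw [hg, hg', form_mul hG hex, entry11, entry11, entry11]
        simp }
  let ι : Usub hG hex →* MulAction.stabilizer (Cfsg.Sz F m)
      (⟨_, infty_mem m⟩ : Cfsg.suzukiOvoid F m) :=
    { toFun := fun u => ⟨u.1, by
        obtain ⟨a, b, hu⟩ := u.2
        rw [MulAction.mem_stabilizer_iff]
        apply Subtype.ext
        show u.1.1 • Cfsg.suzukiPointInfinity F = Cfsg.suzukiPointInfinity F
        rw [hu, T_infty]⟩
      map_one' := rfl
      map_mul' := fun _ _ => rfl }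
  have : Fact (Nat.Prime 2) := ⟨Nat.prime_two⟩
  have hU : Group.IsSolvable (Usub hG hex) := by
    have hp : IsPGroup 2 (Usub hG hex) := by
      intro u
      obtain ⟨a, b, rfl⟩ := tu_surj hG hex u
      exact ⟨2, tu_pow_four hG hex a b⟩
    have : Finite (Usub hG hex) := inferInstance
    have := hp.isNilpotent
    infer_instance
  apply Group.isSolvable_of_ker_le_range ι ψ.toHomUnits
  intro g hg
  obtain ⟨a, b, k, hgf⟩ := hform g
  have h1 : ψ g = 1 := by
    have := congrArg Units.val (MonoidHom.mem_ker.1 hg)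
    simpa using this
  have h2 : (k : F) = 1 := by
    have h3 : ψ g = g.1.1.1 1 1 := rfl
    rw [h3, hgf, entry11] at h1
    exact h1
  have h3 : k = 1 := Units.ext h2
  rw [h3, hh_one, mul_one] at hgf
  exact ⟨⟨g.1, a, b, hgf⟩, rfl⟩

/-- a normal subgroup containing the unipotent subgroup is everything -/
theorem eq_top_of_T_mem (M : Subgroup (Cfsg.Sz F m)) (hM : M.Normal)
    (hT : ∀ a b : F, (⟨T m a b, T_mem hG a b⟩ : Cfsg.Sz F m) ∈ M) : M = ⊤ := by
  -- `w ∈ M`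
  have hw : (⟨w, w_mem hG⟩ : Cfsg.Sz F m) ∈ M := by
    have hff : ff m (1 : F) 1 = 1 := by
      rw [ff_eq]; simp only [sg_one, one_pow, mul_one]
      linear_combination hG.two
    have hfix : (w : SpecialLinearGroup (Fin 4) F) • ppt m (1 : F) 1 = ppt m 1 1 := by
      rw [w_ppt hG (by rw [hff]; exact one_ne_zero), hff]
      simp
    set x : SpecialLinearGroup (Fin 4) F := w * T m 1 (1 + sg m 1 * 1) with hx
    have hxmem : x ∈ Cfsg.Sz F m := mul_mem (w_mem hG) (T_mem hG _ _)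
    have hx1 : x • ppt m (1 : F) 1 = Cfsg.suzukiPointInfinity F := by
      rw [hx, mul_smul, T_to_zero hG, w_zero]
    have hfix' : (x * w * x⁻¹) • Cfsg.suzukiPointInfinity F = Cfsg.suzukiPointInfinity F := by
      rw [← hx1, mul_smul, mul_smul, inv_smul_smul, hfix]
    obtain ⟨a, b, k, hk⟩ := stab_infty_form hG hex
      (mul_mem (mul_mem hxmem (w_mem hG)) (inv_mem hxmem)) hfix'
    have hsq : (x * w * x⁻¹) * (x * w * x⁻¹) = 1 := by
      have : (x * w * x⁻¹) * (x * w * x⁻¹) = x * (w * w) * x⁻¹ := by group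
      rw [this, w_mul_w]; group
    rw [hk, form_mul hG hex] at hsq
    have hkk : ((k * k : Fˣ) : F) = 1 := by
      have := entry11 (m := m) (a + sg m (k : F) * a)
        (b + (k : F) ^ 2 * sg m (k : F) * b + sg m a * (sg m (k : F) * a)) (k * k)
      rw [hsq] at this
      rw [← this]
      show (1 : Matrix (Fin 4) (Fin 4) F) 1 1 = 1
      simp
    have hk1 : k = 1 := by
      apply Units.ext
      apply hG.sq_inj
      rw [Units.val_one, one_pow, sq]
      exact_mod_cast hkk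
    rw [hk1, hh_one, mul_one] at hk
    have h1 : (⟨x, hxmem⟩ : Cfsg.Sz F m) * ⟨w, w_mem hG⟩ * (⟨x, hxmem⟩ : Cfsg.Sz F m)⁻¹ ∈ M := by
      have : (⟨x, hxmem⟩ : Cfsg.Sz F m) * ⟨w, w_mem hG⟩ * (⟨x, hxmem⟩ : Cfsg.Sz F m)⁻¹ =
          ⟨T m a b, T_mem hG a b⟩ := Subtype.ext hk
      rw [this]; exact hT a b
    have h2 := hM.conj_mem _ h1 (⟨x, hxmem⟩ : Cfsg.Sz F m)⁻¹
    have h3 : (⟨x, hxmem⟩ : Cfsg.Sz F m)⁻¹ * ((⟨x, hxmem⟩ : Cfsg.Sz F m) * ⟨w, w_mem hG⟩ *
        (⟨x, hxmem⟩ : Cfsg.Sz F m)⁻¹) * ((⟨x, hxmem⟩ : Cfsg.Sz F m)⁻¹)⁻¹ = ⟨w, w_mem hG⟩ := by group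
    rwa [h3] at h2
  -- the torus
  have hh' : ∀ k : Fˣ, (⟨hh m k, hh_mem hG k⟩ : Cfsg.Sz F m) ∈ M := by
    intro k
    obtain ⟨l, hl⟩ : ∃ l : F, l ^ 2 = (k : F) :=
      (Finite.injective_iff_surjective.1 (fun a b (h : a ^ 2 = b ^ 2) => hG.sq_inj h)) k
    have hl0 : l ≠ 0 := by
      rintro rfl
      exact k.ne_zero (by rw [← hl]; simp)
    have hk : k = Units.mk0 l hl0 * Units.mk0 l hl0 := by
      apply Units.ext
      simp [← hl, sq]
    set l' := Units.mk0 l hl0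
    have h1 := hM.conj_mem _ hw (⟨hh m l', hh_mem hG l'⟩ : Cfsg.Sz F m)
    have h2 := M.mul_mem h1 (M.inv_mem hw)
    have h3 : (⟨hh m l', hh_mem hG l'⟩ : Cfsg.Sz F m) * ⟨w, w_mem hG⟩ *
        (⟨hh m l', hh_mem hG l'⟩ : Cfsg.Sz F m)⁻¹ * (⟨w, w_mem hG⟩ : Cfsg.Sz F m)⁻¹ =
        ⟨hh m k, hh_mem hG k⟩ := by
      apply Subtype.ext
      show hh m l' * w * (hh m l')⁻¹ * w⁻¹ = hh m k
      rw [mul_inv_eq_iff_eq_mul, mul_inv_eq_iff_eq_mul, hk, hh_mul, mul_assoc (hh m l'), hh_w,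
        mul_assoc, mul_assoc, ← hh_mul, inv_mul_cancel, hh_one, mul_one]
      exact (hh_w l').symm
    rwa [h3] at h2
  rw [eq_top_iff]
  intro g _
  have hle : Gen F m ≤ M.map (Cfsg.Sz F m).subtype := by
    unfold Gen
    rw [Subgroup.closure_le]
    rintro g ((⟨a, b, rfl⟩ | ⟨k, rfl⟩) | rfl)
    · exact ⟨_, hT a b, rfl⟩
    · exact ⟨_, hh' k, rfl⟩
    · exact ⟨_, hw, rfl⟩
  obtain ⟨g', hg', he⟩ := hle (Sz_le_Gen hG hex g.2)
  have : g' = g := Subtype.ext he
  rw [← this]; exact hg'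

theorem perfect : commutator (Cfsg.Sz F m) = ⊤ := by
  apply eq_top_of_T_mem hG hex _ inferInstance
  intro a' b'
  obtain ⟨t, ht0, ht1⟩ := id hex
  set k := Units.mk0 t ht0 with hk
  have hkt : (k : F) = t := rfl
  have h1 : sg m t + 1 ≠ 0 := by
    intro h
    exact ht1 (hG.eq_one_of_sg (hG.eq_of_add_eq_zero h))
  have h2 : t ^ 2 * sg m t + 1 ≠ 0 := by
    intro h
    exact ht1 (hG.eq_one_of_sq_mul_sg (hG.eq_of_add_eq_zero h))
  set a := a' / (sg m t + 1) with ha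
  set b := (b' + (1 + t ^ 2) * (sg m a * a)) / (t ^ 2 * sg m t + 1) with hb
  have key : ⁅(⟨hh m k, hh_mem hG k⟩ : Cfsg.Sz F m), (⟨T m a b, T_mem hG a b⟩ : Cfsg.Sz F m)⁆ =
      (⟨T m a' b', T_mem hG a' b'⟩ : Cfsg.Sz F m) := by
    apply Subtype.ext
    show hh m k * T m a b * (hh m k)⁻¹ * (T m a b)⁻¹ = T m a' b'
    rw [mul_inv_eq_iff_eq_mul, mul_inv_eq_iff_eq_mul, hh_T hG hex, T_mul hG hex, hkt]
    congr 2
    · have : a' = a * (sg m t + 1) := by rw [ha]; field_simp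
      rw [this]
      linear_combination (-a) * hG.two
    · have hb' : b' = b * (t ^ 2 * sg m t + 1) - (1 + t ^ 2) * (sg m a * a) := by
        rw [hb]; field_simp; ring
      have ha' : a' = a * (sg m t + 1) := by rw [ha]; field_simp
      rw [hb', ha', sg_mul, hG.sg_add, hG.sgsg, sg_one]
      linear_combination (-b) * hG.two
  rw [← key]
  exact Subgroup.commutator_mem_commutator (Subgroup.mem_top _) (Subgroup.mem_top _)

theorem simple : IsSimpleGroup (Cfsg.Sz F m) := by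
  have h2 := two_transitive (F := F) (m := m) hG
  have hfaith := faithful hG hex
  obtain ⟨P, hB, _, hrank⟩ := Cfsg.Agent.S0323.result h2
    (x := (⟨_, infty_mem m⟩ : Cfsg.suzukiOvoid F m)) (y := ⟨_, ppt_mem m 0 0⟩)
    (z := ⟨_, ppt_mem m 1 0⟩)
    (fun h => ppt_ne_infty m 0 0 (congrArg Subtype.val h).symm)
    (fun h => ppt_one_ne m (congrArg Subtype.val h).symm)
    (fun h => ppt_ne_infty m 1 0 (congrArg Subtype.val h).symm)
  have hnt : Nontrivial (Cfsg.Sz F m) := by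
    obtain ⟨t, ht0, ht1⟩ := id hex
    refine ⟨⟨hh m (Units.mk0 t ht0), hh_mem hG _⟩, 1, ?_⟩
    intro h
    have h1 : hh m (Units.mk0 t ht0) = 1 := congrArg Subtype.val h
    rw [← hh_one m] at h1
    exact ht1 (congrArg Units.val (hh_inj m h1))
  apply Cfsg.Agent.S0319.result P
  · intro J hJ hJne hJc
    exfalso
    obtain ⟨s, hs⟩ := hJne
    obtain ⟨s', hs', hs'J⟩ := hJc
    have h1 : Nat.card P.S = 1 := hrank
    rw [Nat.card_eq_one_iff_unique] at h1
    have := h1.1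
    have h3 : (⟨s, hJ hs⟩ : P.S) = ⟨s', hs'⟩ := Subsingleton.elim _ _
    have h4 : s = s' := congrArg Subtype.val h3
    exact hs'J (h4 ▸ hs)
  · rw [hB]
    exact solvable_stab hG hex
  · exact perfect hG hex
  · rw [hB, eq_bot_iff]
    intro g hg
    rw [Subgroup.mem_bot]
    apply hfaith.eq_of_smul_eq_smul
    intro p
    rw [one_smul]
    have := MulAction.isPretransitive_of_is_two_pretransitive (h2 := h2)
    obtain ⟨x, hx⟩ := MulAction.exists_smul_eq (Cfsg.Sz F m) p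
      (⟨_, infty_mem m⟩ : Cfsg.suzukiOvoid F m)
    have h5 : x * g * x⁻¹ ∈ MulAction.stabilizer (Cfsg.Sz F m)
      (⟨_, infty_mem m⟩ : Cfsg.suzukiOvoid F m) := hg x
    rw [MulAction.mem_stabilizer_iff, ← hx, mul_smul, mul_smul, inv_smul_smul] at h5
    exact smul_left_cancel x h5

end

end Cfsg.Agent.Lib.Helper29.Sz
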