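import Cfsg.Agent.Lib.Helper29.SzGroup

set_option autoImplicit false

namespace Cfsg.Agent.Lib.Helper29.Sz

open Matrix
open scoped Pointwise

variable {F : Type*} [Field F] {m : ℕ}

theorem exists_ne_zero_one [Fintype F] (hm : 1 ≤ m) (hF : Fintype.card F = 2 ^ (2 * m + 1)) :
    ∃ t : F, t ≠ 0 ∧ t ≠ 1 := by
  classical
  have h1 : ({0, 1} : Finset F).card < (Finset.univ : Finset F).card := by
    have h2 : ({0, 1} : Finset F).card ≤ 2 := Finset.card_le_two
    have h3 : (Finset.univ : Finset F).card = 2 ^ (2 * m + 1) := by rw [Finset.card_univ, hF]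
    have h4 : 2 ^ 3 ≤ 2 ^ (2 * m + 1) := Nat.pow_le_pow_right (by norm_num) (by omega)
    omega
  obtain ⟨t, _, ht⟩ := Finset.exists_mem_notMem_of_card_lt_card h1
  simp only [Finset.mem_insert, Finset.mem_singleton, not_or] at ht
  exact ⟨t, ht.1, ht.2⟩

theorem Good.sg_add_sq_ne (hG : Good F m) {t : F} (h0 : t ≠ 0) (h1 : t ≠ 1) :
    sg m t + t ^ 2 ≠ 0 := by
  intro h
  have h2 : sg m t = t ^ 2 := hG.eq_of_add_eq_zero h
  have h3 : t ^ 2 = (t ^ 2) ^ 2 := by
    have := congrArg (sg m) h2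
    rw [hG.sgsg, sg_pow, h2] at this
    exact this
  have h4 : t = t ^ 2 := hG.sq_inj h3
  have h5 : t * (t - 1) = 0 := by linear_combination -h4
  rcases mul_eq_zero.1 h5 with h5 | h5
  · exact h0 h5
  · exact h1 (sub_eq_zero.1 h5)

/-- a `σ`-polynomial identity forces the coefficients to vanish -/
theorem Good.coeff_zero (hG : Good F m) (hex : ∃ t : F, t ≠ 0 ∧ t ≠ 1) {a1 a2 a3 : F}
    (h : ∀ x : F, a1 * (sg m x * x ^ 2) + a2 * x ^ 2 + a3 * sg m x = 0) :
    a1 = 0 ∧ a2 = 0 ∧ a3 = 0 := by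
  obtain ⟨t, ht0, ht1⟩ := hex
  have hne := hG.sg_add_sq_ne ht0 ht1
  have e1 := h 1
  have et := h t
  have et1 := h (t + 1)
  rw [hG.sg_add] at et1
  simp only [sg_one, one_pow, mul_one] at e1 et1
  have ha1 : a1 * (sg m t + t ^ 2) = 0 := by
    linear_combination et1 - et - e1 - (a1 * sg m t * t + a1 * t + a2 * t) * hG.two
  have ha1' : a1 = 0 := (mul_eq_zero.1 ha1).resolve_right hne
  subst ha1'
  have ha2 : a2 * (sg m t + t ^ 2) = 0 := by
    linear_combination et + sg m t * e1 - a3 * sg m t * hG.two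
  have ha2' : a2 = 0 := (mul_eq_zero.1 ha2).resolve_right hne
  subst ha2'
  refine ⟨rfl, rfl, ?_⟩
  linear_combination e1

theorem smul_apply (g : SpecialLinearGroup (Fin 4) F) (v : Fin 4 → F) (i : Fin 4) :
    (g • v) i = g.1 i 0 * v 0 + g.1 i 1 * v 1 + g.1 i 2 * v 2 + g.1 i 3 * v 3 := by
  rw [smul_vec]
  simp [Matrix.mulVec, dotProduct, Fin.sum_univ_succ]
  ring

/-- an element of the group fixing `∞` preserves the tangent plane at `∞` -/
theorem row3_zero {g : SpecialLinearGroup (Fin 4) F} (hg : g ∈ Cfsg.Sz F m) {c : F} (hc : c ≠ 0)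
    (h1 : g • (e1 : Fin 4 → F) = c • e1) (v : Fin 4 → F) (hv3 : v 3 = 0) : (g • v) 3 = 0 := by
  by_contra hne
  set u := g • v with hu
  set t := (u 3 * ff m (u 2 / u 3) (u 1 / u 3) - u 0) / c with ht
  have hgv' : g • (v + t • e1) = u + (t * c) • e1 := by
    rw [smul_add, smul_comm, h1, smul_smul]
  have h3' : (u + (t * c) • (e1 : Fin 4 → F)) 3 = u 3 := by simp [e1]
  have h2' : (u + (t * c) • (e1 : Fin 4 → F)) 2 = u 2 := by simp [e1]
  have h1' : (u + (t * c) • (e1 : Fin 4 → F)) 1 = u 1 := by simp [e1]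
  have h0' : (u + (t * c) • (e1 : Fin 4 → F)) 0 = u 3 * ff m (u 2 / u 3) (u 1 / u 3) := by
    simp [e1, ht]
    field_simp
    ring
  have hne1 : u + (t * c) • (e1 : Fin 4 → F) ≠ 0 := by
    intro h0
    rw [h0] at h3'
    exact hne h3'.symm
  have hne2 : v + t • (e1 : Fin 4 → F) ≠ 0 := by
    intro h0
    rw [h0, smul_zero] at hgv'
    exact hne1 hgv'.symm
  have hmem : Projectivization.mk F _ hne1 ∈ Cfsg.suzukiOvoid F m := by
    rw [mem_ovoid_iff']
    right
    rw [h3', h2', h1', h0']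
    exact ⟨hne, rfl⟩
  have hmem2 : Projectivization.mk F _ hne2 ∈ Cfsg.suzukiOvoid F m := by
    have h5 := smul_mem_ovoid (inv_mem hg) hmem
    rwa [smul_mk_eq (c := 1) hne1 hne2 (by rw [← hgv', inv_smul_smul, one_smul])] at h5
  rw [mem_ovoid_iff'] at hmem2
  rcases hmem2 with ⟨k1, k2, _⟩ | ⟨k3, _⟩
  · simp [e1] at k1 k2
    have hv : v = v 0 • e1 := by
      ext i
      fin_cases i <;> simp [e1, k1, k2, hv3]
    apply hne
    rw [hu, hv, smul_comm, h1]
    simp [e1]
  · apply k3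
    simp [e1, hv3]

theorem w_mul_w : (w : SpecialLinearGroup (Fin 4) F) * w = 1 := by
  apply Subtype.ext
  show (wm : Matrix (Fin 4) (Fin 4) F) * wm = 1
  ext i j
  fin_cases i <;> fin_cases j <;>
    simp [wm, Matrix.mul_apply, Fin.sum_univ_succ]

theorem w_conj_apply (g : SpecialLinearGroup (Fin 4) F) (i j : Fin 4) :
    (w * g * w).1 i j = g.1 (Fin.rev i) (Fin.rev j) := by
  show ((wm * g.1 * wm : Matrix (Fin 4) (Fin 4) F)) i j = _
  fin_cases i <;> fin_cases j <;>
    simp [wm, Matrix.mul_apply, Fin.sum_univ_succ, Fin.rev, Matrix.vecMul, dotProduct]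

/-- linear substitutions preserving the ovoid function up to a scalar -/
theorem Good.subst (hG : Good F m) (hex : ∃ t : F, t ≠ 0 ∧ t ≠ 1) {c α β γ δ : F}
    (hE : ∀ x y : F, c * ff m x y = ff m (α * x + β * y) (γ * x + δ * y)) :
    β = 0 ∧ γ = 0 ∧ c = sg m α * α ^ 2 ∧ c = α * δ := by
  have h1 : ∀ x : F, (c + sg m α * α ^ 2) * (sg m x * x ^ 2) + (α * γ) * x ^ 2 + sg m γ * sg m x = 0 := by
    intro x
    have e := hE x 0
    rw [ff_eq, ff_eq] at e
    simp only [mul_zero, add_zero, sg_zero, sg_mul, zero_add] at e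
    linear_combination e + (α * γ * x ^ 2 + sg m α * α ^ 2 * sg m x * x ^ 2 + sg m γ * sg m x) * hG.two
  obtain ⟨hc, _, hγ⟩ := hG.coeff_zero hex h1
  have hγ0 : γ = 0 := (sg_eq_zero m).1 hγ
  have h2 : ∀ y : F, (sg m β * β ^ 2) * (sg m y * y ^ 2) + (β * δ) * y ^ 2 + (sg m δ + c) * sg m y = 0 := by
    intro y
    have e := hE 0 y
    rw [ff_eq, ff_eq] at e
    simp only [mul_zero, zero_mul, add_zero, sg_zero, sg_mul, zero_add] at e
    linear_combination -e + c * sg m y * hG.two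
  obtain ⟨hβ, _, hδ⟩ := hG.coeff_zero hex h2
  have hβ0 : β = 0 := by
    rcases mul_eq_zero.1 hβ with h | h
    · exact (sg_eq_zero m).1 h
    · exact pow_eq_zero_iff (by norm_num) |>.1 h
  refine ⟨hβ0, hγ0, hG.eq_of_add_eq_zero hc, ?_⟩
  have e := hE 1 1
  rw [hβ0, hγ0, ff_eq, ff_eq] at e
  simp only [mul_one, add_zero, zero_add, sg_one, one_pow] at e
  linear_combination e + hc + hδ - 2 * c * hG.two

theorem Good.eq_one_of_pow_four (hG : Good F m) {t : F} (h : t ^ 4 = 1) : t = 1 := by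
  have h1 : t ^ 2 = 1 := hG.sq_inj (by rw [one_pow, ← h]; ring)
  exact hG.sq_inj (by rw [one_pow, h1])

/-- the stabiliser of `∞` and `0` consists of the torus elements -/
theorem stab_two [Finite F] (hG : Good F m) (hex : ∃ t : F, t ≠ 0 ∧ t ≠ 1)
    {g : SpecialLinearGroup (Fin 4) F} (hg : g ∈ Cfsg.Sz F m)
    (hinf : g • Cfsg.suzukiPointInfinity F = Cfsg.suzukiPointInfinity F)
    (hzero : g • ppt m (0 : F) 0 = ppt m 0 0) : ∃ k : Fˣ, g = hh m k := by
  obtain ⟨c1, hc1⟩ : ∃ c : F, g • (e1 : Fin 4 → F) = c • e1 := by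
    have := hinf
    rw [infty_eq, Projectivization.smul_mk, Projectivization.mk_eq_mk_iff'] at this
    obtain ⟨c, hc⟩ := this
    exact ⟨c, hc.symm⟩
  obtain ⟨c4, hc4⟩ : ∃ c : F, g • pt m (0 : F) 0 = c • pt m 0 0 := by
    have := hzero
    unfold ppt at this
    rw [Projectivization.smul_mk, Projectivization.mk_eq_mk_iff'] at this
    obtain ⟨c, hc⟩ := this
    exact ⟨c, hc.symm⟩
  have hc1ne : c1 ≠ 0 := by
    rintro rfl
    rw [zero_smul] at hc1
    exact (smul_ne_zero_iff_ne g).mpr e1_ne_zero hc1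
  have hc4ne : c4 ≠ 0 := by
    rintro rfl
    rw [zero_smul] at hc4
    exact (smul_ne_zero_iff_ne g).mpr (pt_ne_zero m 0 0) hc4
  have col0 : ∀ i, g.1 i 0 = c1 * (e1 : Fin 4 → F) i := fun i => by
    have := congrFun hc1 i
    rw [smul_apply] at this
    simpa [e1] using this
  have col3 : ∀ i, g.1 i 3 = c4 * pt m (0 : F) 0 i := fun i => by
    have := congrFun hc4 i
    rw [smul_apply] at this
    simpa [pt] using this
  have r31 : g.1 3 1 = 0 := by
    have := row3_zero hg hc1ne hc1 ![0, 1, 0, 0] rfl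
    rw [smul_apply] at this
    simpa using this
  have r32 : g.1 3 2 = 0 := by
    have := row3_zero hg hc1ne hc1 ![0, 0, 1, 0] rfl
    rw [smul_apply] at this
    simpa using this
  have hg' : w * g * w ∈ Cfsg.Sz F m := mul_mem (mul_mem (w_mem hG) hg) (w_mem hG)
  have hc1' : (w * g * w) • (e1 : Fin 4 → F) = c4 • e1 := by
    rw [mul_smul, mul_smul, w_e1 m, hc4, smul_comm, w_pt0]
  have r01 : g.1 0 1 = 0 := by
    have := row3_zero hg' hc4ne hc1' ![0, 0, 1, 0] rfl
    rw [smul_apply] at this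
    have h2 : (w * g * w).1 3 2 = g.1 0 1 := w_conj_apply g 3 2
    simpa [h2] using this
  have r02 : g.1 0 2 = 0 := by
    have := row3_zero hg' hc4ne hc1' ![0, 1, 0, 0] rfl
    rw [smul_apply] at this
    have h2 : (w * g * w).1 3 1 = g.1 0 2 := w_conj_apply g 3 1
    simpa [h2] using this
  have hE : ∀ x y : F, (c1 / c4) * ff m x y =
      ff m (g.1 2 2 / c4 * x + g.1 2 1 / c4 * y) (g.1 1 2 / c4 * x + g.1 1 1 / c4 * y) := by
    intro x y
    have hmem := smul_mem_ovoid hg (ppt_mem m x y)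
    unfold ppt at hmem
    rw [Projectivization.smul_mk, mem_ovoid_iff'] at hmem
    have k0 : (g • pt m x y) 0 = c1 * ff m x y := by
      rw [smul_apply, col0, r01, r02, col3]; simp [pt, e1]
    have k1 : (g • pt m x y) 1 = g.1 1 1 * y + g.1 1 2 * x := by
      rw [smul_apply, col0, col3]; simp [pt, e1]
    have k2 : (g • pt m x y) 2 = g.1 2 1 * y + g.1 2 2 * x := by
      rw [smul_apply, col0, col3]; simp [pt, e1]
    have k3 : (g • pt m x y) 3 = c4 := by
      rw [smul_apply, col0, r31, r32, col3]; simp [pt, e1]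
    rw [k0, k1, k2, k3] at hmem
    rcases hmem with ⟨_, _, h⟩ | ⟨_, h⟩
    · exact absurd h hc4ne
    · have a1 : g.1 2 2 / c4 * x + g.1 2 1 / c4 * y = (g.1 2 1 * y + g.1 2 2 * x) / c4 := by
        field_simp; ring
      have a2 : g.1 1 2 / c4 * x + g.1 1 1 / c4 * y = (g.1 1 1 * y + g.1 1 2 * x) / c4 := by
        field_simp; ring
      rw [a1, a2, div_mul_eq_mul_div, h, mul_div_cancel_left₀ _ hc4ne]
  obtain ⟨hβ, hγ, hc, hcαδ⟩ := hG.subst hex hE
  have hr : g.1 2 1 = 0 := by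
    rcases div_eq_zero_iff.1 hβ with h | h
    · exact h
    · exact absurd h hc4ne
  have hq : g.1 1 2 = 0 := by
    rcases div_eq_zero_iff.1 hγ with h | h
    · exact h
    · exact absurd h hc4ne
  set α := g.1 2 2 / c4 with hα
  set δ := g.1 1 1 / c4 with hδ
  have hcne : c1 / c4 ≠ 0 := div_ne_zero hc1ne hc4ne
  have hαne : α ≠ 0 := by
    intro h
    rw [h, zero_mul] at hcαδ
    exact hcne hcαδ
  obtain ⟨k, hk⟩ : ∃ k : F, sg m k = α :=
    (Finite.injective_iff_surjective.1 (fun a b h => hG.sg_inj h)) α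
  have hkne : k ≠ 0 := by
    rintro rfl
    rw [sg_zero] at hk
    exact hαne hk.symm
  have hA : sg m α = k ^ 2 := by rw [← hk, hG.sgsg]
  have hs : g.1 2 2 = α * c4 := by rw [hα]; field_simp
  have hp : g.1 1 1 = k ^ 2 * α * c4 := by
    have h1 : δ = k ^ 2 * α := by
      have h2 : α * δ = α * (k ^ 2 * α) := by rw [← hcαδ, hc, hA]; ring
      exact mul_left_cancel₀ hαne h2
    have h3 : g.1 1 1 = δ * c4 := by rw [hδ]; field_simp
    rw [h3, h1]
  have hc1' : c1 = k ^ 2 * α ^ 2 * c4 := by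
    have h1 : c1 = c1 / c4 * c4 := by field_simp
    rw [h1, hc, hA]
  have hM : g.1 = !![c1, 0, 0, 0; 0, g.1 1 1, 0, 0; 0, 0, g.1 2 2, 0; 0, 0, 0, c4] := by
    ext i j
    fin_cases i <;> fin_cases j <;>
      simp [col0, col3, r01, r02, r31, r32, hr, hq, e1, pt]
  have hdet : c1 * g.1 1 1 * g.1 2 2 * c4 = 1 := by
    have h1 := g.2
    rw [hM] at h1
    simpa [Matrix.det_succ_row_zero, Fin.sum_univ_succ, mul_assoc] using h1
  have hone : c4 * k * α = 1 := by
    apply hG.eq_one_of_pow_four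
    rw [← hdet, hc1', hp, hs]
    ring
  refine ⟨Units.mk0 k hkne, ?_⟩
  apply Subtype.ext
  show g.1 = hm m k
  have e1' : c1 = k * sg m k := by
    rw [hc1', hk]
    linear_combination k * α * hone
  have e2' : g.1 1 1 = k := by
    rw [hp]
    linear_combination k * hone
  have e3' : g.1 2 2 = k⁻¹ := by
    rw [hs]
    field_simp
    linear_combination hone
  have e4' : c4 = (k * sg m k)⁻¹ := by
    rw [hk]
    field_simp
    linear_combination hone
  rw [hM, e1', e2', e3']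
  unfold hm
  rw [← e4']

variable (m) in
theorem hh_mul (k k' : Fˣ) : hh m (k * k') = hh m k * hh m k' := by
  apply Subtype.ext
  show hm m ((k * k' : Fˣ) : F) = hm m (k : F) * hm m (k' : F)
  ext i j
  fin_cases i <;> fin_cases j <;>
    simp [hm, Matrix.mul_apply, Fin.sum_univ_succ, sg_mul] <;> ring

variable (m) in
theorem hh_one : hh m (1 : Fˣ) = 1 := by
  apply Subtype.ext
  show hm m ((1 : Fˣ) : F) = 1
  ext i j
  fin_cases i <;> fin_cases j <;> simp [hm]

variable (m) in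
theorem hh_inj {k k' : Fˣ} (h : hh m k = hh m k') : k = k' := by
  have h1 : (hh m k).1 1 1 = (hh m k').1 1 1 := by rw [h]
  apply Units.ext
  simpa [hh, hm] using h1

/-- the two point stabiliser is isomorphic to the multiplicative group of the field -/
theorem stab_two_equiv [Finite F] (hG : Good F m) (hex : ∃ t : F, t ≠ 0 ∧ t ≠ 1) :
    Nonempty (↥(MulAction.stabilizer (Cfsg.Sz F m) (Cfsg.suzukiPointInfinity F) ⊓
        MulAction.stabilizer (Cfsg.Sz F m) (Cfsg.suzukiPointZero F)) ≃* Fˣ) := by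
  let φ : Fˣ →* ↥(MulAction.stabilizer (Cfsg.Sz F m) (Cfsg.suzukiPointInfinity F) ⊓
        MulAction.stabilizer (Cfsg.Sz F m) (Cfsg.suzukiPointZero F)) :=
    { toFun := fun k => ⟨⟨hh m k, hh_mem hG k⟩, by
        constructor
        · exact hh_infty m k
        · show hh m k • Cfsg.suzukiPointZero F = Cfsg.suzukiPointZero F
          rw [zero_eq m, hh_ppt hG]
          simp⟩
      map_one' := by
        apply Subtype.ext
        apply Subtype.ext
        exact hh_one m
      map_mul' := by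
        intro k k'
        apply Subtype.ext
        apply Subtype.ext
        exact hh_mul m k k' }
  have hbij : Function.Bijective φ := by
    constructor
    · intro k k' h
      exact hh_inj m (congrArg (fun x => ((x : ↥(MulAction.stabilizer (Cfsg.Sz F m)
        (Cfsg.suzukiPointInfinity F) ⊓ MulAction.stabilizer (Cfsg.Sz F m)
        (Cfsg.suzukiPointZero F))) : Cfsg.Sz F m).1) h)
    · rintro ⟨⟨g, hg⟩, h1, h2⟩
      have h1' : g • Cfsg.suzukiPointInfinity F = Cfsg.suzukiPointInfinity F := h1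
      have h2' : g • ppt m (0 : F) 0 = ppt m 0 0 := by
        rw [← zero_eq m]; exact h2
      obtain ⟨k, rfl⟩ := stab_two hG hex hg h1' h2'
      exact ⟨k, rfl⟩
  exact ⟨(MulEquiv.ofBijective φ hbij).symm⟩

end Cfsg.Agent.Lib.Helper29.Sz
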