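import Cfsg.Agent.Lib.Helper29.SzZass

set_option autoImplicit false

namespace Cfsg.Agent.Lib.Helper29.Sz

open Matrix
open scoped Pointwise commutatorElement

variable {F : Type*} [Field F] {m : ℕ}

theorem T_inv [Finite F] (hG : Good F m) (hex : ∃ t : F, t ≠ 0 ∧ t ≠ 1) (a b : F) :
    (T m a b)⁻¹ = T m a (b + sg m a * a) := by
  rw [inv_eq_iff_mul_eq_one, T_mul hG hex, ← T_zero hG hex]
  congr 1
  · exact hG.add_self a
  · linear_combination (b + sg m a * a) * hG.two

/-- the unipotent subgroup -/
def Usub [Finite F] (hG : Good F m) (hex : ∃ t : F, t ≠ 0 ∧ t ≠ 1) : Subgroup (Cfsg.Sz F m) where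
  carrier := {g | ∃ a b : F, g.1 = T m a b}
  one_mem' := ⟨0, 0, (T_zero hG hex).symm⟩
  mul_mem' := by
    rintro g h ⟨a, b, hg⟩ ⟨c, d, hh⟩
    exact ⟨_, _, by
      show g.1 * h.1 = _
      rw [hg, hh, T_mul hG hex]⟩
  inv_mem' := by
    rintro g ⟨a, b, hg⟩
    exact ⟨_, _, by
      show g.1⁻¹ = _
      rw [hg, T_inv hG hex]⟩

section U

variable [Finite F] (hG : Good F m) (hex : ∃ t : F, t ≠ 0 ∧ t ≠ 1)

/-- elements of the unipotent subgroup -/
def tu (a b : F) : Usub hG hex := ⟨⟨T m a b, T_mem hG a b⟩, a, b, rfl⟩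

theorem tu_surj (u : Usub hG hex) : ∃ a b, u = tu hG hex a b := by
  obtain ⟨⟨g, hg⟩, a, b, h⟩ := u
  exact ⟨a, b, Subtype.ext (Subtype.ext h)⟩

theorem tu_mul (a b c d : F) :
    tu hG hex a b * tu hG hex c d = tu hG hex (a + c) (b + d + sg m a * c) :=
  Subtype.ext (Subtype.ext (T_mul hG hex a b c d))

theorem tu_zero : tu hG hex 0 0 = 1 := Subtype.ext (Subtype.ext (T_zero hG hex))

theorem tu_inj {a b c d : F} (h : tu hG hex a b = tu hG hex c d) : a = c ∧ b = d :=
  T_inj hG (congrArg (fun u : Usub hG hex => (u : Cfsg.Sz F m).1) h)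

theorem tu_sq (a b : F) : tu hG hex a b ^ 2 = tu hG hex 0 (sg m a * a) := by
  rw [sq, tu_mul]
  congr 1
  · exact hG.add_self a
  · linear_combination b * hG.two

theorem tu_pow_four (a b : F) : tu hG hex a b ^ 4 = 1 := by
  have : tu hG hex a b ^ 4 = (tu hG hex a b ^ 2) ^ 2 := by rw [← pow_mul]
  rw [this, tu_sq, tu_sq, ← tu_zero hG hex]
  simp

theorem card_Usub [Fintype F] : Nat.card (Usub hG hex) = Fintype.card F ^ 2 := by
  have hbij : Function.Bijective (fun p : F × F => tu hG hex p.1 p.2) := by
    constructor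
    · rintro ⟨a, b⟩ ⟨c, d⟩ h
      obtain ⟨h1, h2⟩ := tu_inj hG hex h
      simp only at h1 h2
      rw [h1, h2]
    · intro u
      obtain ⟨a, b, rfl⟩ := tu_surj hG hex u
      exact ⟨(a, b), rfl⟩
  rw [← Nat.card_congr (Equiv.ofBijective _ hbij), Nat.card_prod, Nat.card_eq_fintype_card]
  ring

include hG in
omit [Finite F] in
theorem sg_ne_self {t : F} (h0 : t ≠ 0) (h1 : t ≠ 1) : sg m t + t ≠ 0 := by
  intro h
  have h2 : sg m t = t := hG.eq_of_add_eq_zero h
  have h3 : t ^ 2 = t := by
    have := congrArg (sg m) h2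
    rwa [hG.sgsg, h2] at this
  have h5 : t * (t - 1) = 0 := by linear_combination h3
  rcases mul_eq_zero.1 h5 with h5 | h5
  · exact h0 h5
  · exact h1 (sub_eq_zero.1 h5)

theorem mem_center_iff (u : Usub hG hex) :
    u ∈ Subgroup.center (Usub hG hex) ↔ ∃ b, u = tu hG hex 0 b := by
  constructor
  · intro hu
    obtain ⟨a, b, rfl⟩ := tu_surj hG hex u
    rw [Subgroup.mem_center_iff] at hu
    obtain ⟨t, ht0, ht1⟩ := id hex
    have e1 := (tu_inj hG hex (by simpa only [tu_mul] using hu (tu hG hex 1 0))).2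
    have et := (tu_inj hG hex (by simpa only [tu_mul] using hu (tu hG hex t 0))).2
    simp only [sg_one, one_mul, mul_one, zero_add, add_zero] at e1 et
    have h1 : sg m a = a := by linear_combination -e1
    rw [h1] at et
    have h2 : a * (sg m t + t) = 0 := by linear_combination et + a * t * hG.two
    have ha : a = 0 := (mul_eq_zero.1 h2).resolve_right (sg_ne_self hG ht0 ht1)
    exact ⟨b, by rw [ha]⟩
  · rintro ⟨b, rfl⟩
    rw [Subgroup.mem_center_iff]
    intro v
    obtain ⟨c, d, rfl⟩ := tu_surj hG hex v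
    rw [tu_mul, tu_mul]
    congr 1
    · ring
    · simp; ring

include hG in
theorem mul_sg_surj (b : F) : ∃ l : F, l * sg m l = b := by
  have hinj : Function.Injective (fun l : F => l * sg m l) := by
    intro l l' h
    simp only at h
    by_cases hl' : l' = 0
    · subst hl'
      simp only [sg_zero, mul_zero] at h
      rcases mul_eq_zero.1 h with h | h
      · exact h
      · exact (sg_eq_zero m).1 h
    · have h1 : (l / l') * sg m (l / l') = 1 := by
        rw [sg_div]
        have := sg_ne_zero m hl'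
        field_simp
        linear_combination h
      have h2 := hG.eq_one_of_mul_sg h1
      field_simp at h2
      exact h2
  exact Finite.injective_iff_surjective.1 hinj b

theorem commutator_eq_center : Subgroup.center (Usub hG hex) = commutator (Usub hG hex) := by
  apply le_antisymm
  · intro u hu
    obtain ⟨b, rfl⟩ := (mem_center_iff hG hex u).1 hu
    obtain ⟨t, ht0, ht1⟩ := id hex
    have hv := sg_ne_self hG ht0 ht1
    obtain ⟨l, hl⟩ := mul_sg_surj hG (b / (sg m t + t))
    have key : ⁅tu hG hex (l * t) 0, tu hG hex l 0⁆ = tu hG hex 0 b := by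
      rw [commutatorElement_def, mul_inv_eq_iff_eq_mul, mul_inv_eq_iff_eq_mul, tu_mul, tu_mul, tu_mul]
      congr 1
      · ring
      · have hb : b = l * sg m l * (sg m t + t) := by
          rw [hl]; field_simp
        rw [hb, sg_mul]
        simp only [sg_zero, zero_mul, add_zero, zero_add]
        linear_combination (-(l * sg m l * t)) * hG.two
    rw [← key]
    exact Subgroup.commutator_mem_commutator (Subgroup.mem_top _) (Subgroup.mem_top _)
  · rw [commutator_def, Subgroup.commutator_le]
    intro x _ y _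
    obtain ⟨a, b, rfl⟩ := tu_surj hG hex x
    obtain ⟨c, d, rfl⟩ := tu_surj hG hex y
    rw [mem_center_iff]
    refine ⟨sg m a * c + sg m c * a, ?_⟩
    rw [commutatorElement_def, mul_inv_eq_iff_eq_mul, mul_inv_eq_iff_eq_mul, tu_mul, tu_mul, tu_mul]
    congr 1
    · ring
    · simp only [sg_zero, zero_mul, add_zero, zero_add]
      linear_combination (-(sg m c * a)) * hG.two

theorem card_center [Fintype F] : Nat.card (Subgroup.center (Usub hG hex)) = Fintype.card F := by
  have hbij : Function.Bijective (fun b : F =>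
      (⟨tu hG hex 0 b, (mem_center_iff hG hex _).2 ⟨b, rfl⟩⟩ : Subgroup.center (Usub hG hex))) := by
    constructor
    · intro b b' h
      exact (tu_inj hG hex (congrArg Subtype.val h)).2
    · rintro ⟨u, hu⟩
      obtain ⟨b, rfl⟩ := (mem_center_iff hG hex u).1 hu
      exact ⟨b, rfl⟩
  rw [← Nat.card_congr (Equiv.ofBijective _ hbij), Nat.card_eq_fintype_card]

theorem exponent_Usub : Monoid.exponent (Usub hG hex) = 4 := by
  apply Nat.dvd_antisymm
  · apply Monoid.exponent_dvd_of_forall_pow_eq_one
    intro u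
    obtain ⟨a, b, rfl⟩ := tu_surj hG hex u
    exact tu_pow_four hG hex a b
  · have h1 : orderOf (tu hG hex 1 0) = 2 ^ (1 + 1) := by
      apply orderOf_eq_prime_pow
      · rw [pow_one, tu_sq, ← tu_zero hG hex]
        intro h
        have := (tu_inj hG hex h).2
        simp at this
      · exact tu_pow_four hG hex 1 0
    have h2 := Monoid.order_dvd_exponent (tu hG hex 1 0)
    rw [h1] at h2
    exact h2

end U

/-- transport of the structural statement along an isomorphism -/
theorem transport {A B : Type*} [Group A] [Group B] (e : A ≃* B) {q : ℕ}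
    (h : Nat.card B = q ^ 2 ∧ Monoid.exponent B = 4 ∧ Subgroup.center B = commutator B ∧
      Nat.card (Subgroup.center B) = q) :
    Nat.card A = q ^ 2 ∧ Monoid.exponent A = 4 ∧ Subgroup.center A = commutator A ∧
      Nat.card (Subgroup.center A) = q := by
  obtain ⟨h1, h2, h3, h4⟩ := h
  have hc : ∀ x : A, x ∈ Subgroup.center A ↔ e x ∈ Subgroup.center B := by
    intro x
    rw [Subgroup.mem_center_iff, Subgroup.mem_center_iff]
    constructor
    · intro hx y
      obtain ⟨y', rfl⟩ := e.surjective y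
      rw [← map_mul, ← map_mul, hx]
    · intro hx y
      apply e.injective
      rw [map_mul, map_mul, hx]
  have hd : ∀ x : A, x ∈ commutator A ↔ e x ∈ commutator B := by
    intro x
    have h5 : (commutator A).map e.toMonoidHom = commutator B := by
      rw [commutator_def, commutator_def, Subgroup.map_commutator,
        Subgroup.map_top_of_surjective _ e.surjective]
    rw [← h5]
    constructor
    · intro hx
      exact ⟨x, hx, rfl⟩
    · rintro ⟨y, hy, hxy⟩
      have : y = x := e.injective hxy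
      rw [← this]; exact hy
  refine ⟨by rw [Nat.card_congr e.toEquiv, h1], by rw [Monoid.exponent_eq_of_mulEquiv e, h2], ?_, ?_⟩
  · ext x
    rw [hc, hd, h3]
  · rw [← h4]
    apply Nat.card_congr
    exact
      { toFun := fun x => ⟨e x.1, (hc x.1).1 x.2⟩
        invFun := fun y => ⟨e.symm y.1, (hc _).2 (by rw [e.apply_symm_apply]; exact y.2)⟩
        left_inv := fun x => Subtype.ext (e.symm_apply_apply x.1)
        right_inv := fun y => Subtype.ext (e.apply_symm_apply y.1) }

theorem sylow_two [Fintype F] (hG : Good F m) (hex : ∃ t : F, t ≠ 0 ∧ t ≠ 1) {n : ℕ}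
    (hn : 1 ≤ n) (hF : Fintype.card F = 2 ^ n) (P : Sylow 2 (Cfsg.Sz F m)) :
    Nat.card P = Fintype.card F ^ 2 ∧ Monoid.exponent P = 4 ∧
      Subgroup.center P = commutator P ∧ Nat.card (Subgroup.center P) = Fintype.card F := by
  have : Fact (Nat.Prime 2) := ⟨Nat.prime_two⟩
  have hp : IsPGroup 2 (Usub hG hex) := by
    apply IsPGroup.of_card (n := 2 * n)
    rw [card_Usub, hF]; ring
  have hidx : ¬ 2 ∣ (Usub hG hex).index := by
    have h1 := Subgroup.card_mul_index (Usub hG hex)
    rw [card_Usub, card_Sz hG hex, mul_assoc] at h1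
    have h2 : (Usub hG hex).index = (Fintype.card F ^ 2 + 1) * (Fintype.card F - 1) :=
      Nat.eq_of_mul_eq_mul_left (by positivity) h1
    rw [h2, hF]
    have h3 : 2 ∣ 2 ^ n := dvd_pow_self 2 (by omega)
    have h4 : 1 ≤ 2 ^ n := Nat.one_le_two_pow
    intro h
    rcases (Nat.Prime.dvd_mul Nat.prime_two).1 h with h | h
    · have h5 : 2 ∣ (2 ^ n) ^ 2 := Dvd.dvd.pow h3 (by norm_num)
      have := (Nat.dvd_add_right h5).1 h
      omega
    · omega
  have : Finite (Cfsg.Sz F m) := inferInstance
  let e : P ≃* (hp.toSylow hidx : Sylow 2 (Cfsg.Sz F m)) := Sylow.equiv P _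
  exact transport e ⟨card_Usub hG hex, exponent_Usub hG hex, commutator_eq_center hG hex,
    card_center hG hex⟩

end Cfsg.Agent.Lib.Helper29.Sz
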