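import Cfsg.Agent.Lib.Helper29.SzGen

set_option autoImplicit false

namespace Cfsg.Agent.Lib.Helper29.Sz

open Matrix
open scoped Pointwise

variable {F : Type*} [Field F] {m : ℕ}

theorem Good.eq_one_of_mul_sg (hG : Good F m) {r : F} (h : r * sg m r = 1) : r = 1 := by
  have h1 : sg m r * r ^ 2 = 1 := by
    have := congrArg (sg m) h
    rwa [sg_mul, hG.sgsg, sg_one] at this
  linear_combination h1 - r * h

theorem Good.eq_one_of_sq_mul_sg (hG : Good F m) {k : F} (h : k ^ 2 * sg m k = 1) : k = 1 := by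
  have h1 : (sg m k * k) ^ 2 = 1 ^ 2 := by
    have := congrArg (sg m) h
    rw [sg_mul, sg_pow, hG.sgsg, sg_one] at this
    rw [one_pow, ← this]; ring
  have h2 : sg m k * k = 1 := hG.sq_inj h1
  linear_combination h - k * h2

theorem Good.eq_one_of_sg (hG : Good F m) {k : F} (h : sg m k = 1) : k = 1 :=
  hG.sg_inj (by rw [h, sg_one])

/-- a torus element fixing a third point is trivial -/
theorem hh_fix (hG : Good F m) {k : Fˣ} {x y : F} (hxy : ¬ (x = 0 ∧ y = 0))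
    (h : hh m k • ppt m x y = ppt m x y) : k = 1 := by
  rw [hh_ppt hG] at h
  obtain ⟨h1, h2⟩ := ppt_inj m h
  apply Units.ext
  by_cases hx : x = 0
  · have hy : y ≠ 0 := fun hy => hxy ⟨hx, hy⟩
    apply hG.eq_one_of_sq_mul_sg
    exact mul_right_cancel₀ hy (by rw [h2, one_mul])
  · apply hG.eq_one_of_sg
    exact mul_right_cancel₀ hx (by rw [h1, one_mul])

/-- only the identity fixes three points of the ovoid -/
theorem three_fixed [Finite F] (hG : Good F m) (hex : ∃ t : F, t ≠ 0 ∧ t ≠ 1)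
    {g : SpecialLinearGroup (Fin 4) F} (hg : g ∈ Cfsg.Sz F m)
    {P Q R : Projectivization F (Fin 4 → F)} (hP : P ∈ Cfsg.suzukiOvoid F m)
    (hQ : Q ∈ Cfsg.suzukiOvoid F m) (hR : R ∈ Cfsg.suzukiOvoid F m)
    (hPQ : P ≠ Q) (hQR : Q ≠ R) (hPR : P ≠ R)
    (h1 : g • P = P) (h2 : g • Q = Q) (h3 : g • R = R) : g = 1 := by
  obtain ⟨x, hx, hxP, hxQ⟩ := exists_move hG hP hQ hPQ
  have e1 : (x * g * x⁻¹) • Cfsg.suzukiPointInfinity F = Cfsg.suzukiPointInfinity F := by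
    rw [← hxP, mul_smul, mul_smul, inv_smul_smul, h1]
  have e2 : (x * g * x⁻¹) • ppt m (0 : F) 0 = ppt m 0 0 := by
    rw [← hxQ, mul_smul, mul_smul, inv_smul_smul, h2]
  obtain ⟨k, hk⟩ := stab_two hG hex (mul_mem (mul_mem hx hg) (inv_mem hx)) e1 e2
  rcases mem_ovoid_cases m (smul_mem_ovoid hx hR) with h | ⟨u, v, h⟩
  · exact absurd (smul_left_cancel x (hxP.trans h.symm)) hPR
  · have huv : ¬ (u = 0 ∧ v = 0) := by
      rintro ⟨rfl, rfl⟩
      exact absurd (smul_left_cancel x (hxQ.trans h.symm)) hQR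
    have e3 : hh m k • ppt m u v = ppt m u v := by
      rw [← hk, ← h, mul_smul, mul_smul, inv_smul_smul, h3]
    have hk1 := hh_fix hG huv e3
    rw [hk1, hh_one] at hk
    have : x * g = x := by
      have := congrArg (· * x) hk
      simpa using this
    simpa using this

theorem ppt_one_ne (m : ℕ) : ppt m (1 : F) 0 ≠ ppt m 0 0 := fun h => by
  have := (ppt_inj m h).1
  exact one_ne_zero this

/-- two elements of the group agreeing on the ovoid are equal -/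
theorem eq_of_smul_eq [Finite F] (hG : Good F m) (hex : ∃ t : F, t ≠ 0 ∧ t ≠ 1)
    {g g' : SpecialLinearGroup (Fin 4) F} (hg : g ∈ Cfsg.Sz F m) (hg' : g' ∈ Cfsg.Sz F m)
    (h1 : g • Cfsg.suzukiPointInfinity F = g' • Cfsg.suzukiPointInfinity F)
    (h2 : ∀ x y : F, g • ppt m x y = g' • ppt m x y) : g = g' := by
  have key : g'⁻¹ * g = 1 := by
    apply three_fixed hG hex (mul_mem (inv_mem hg') hg) (infty_mem m) (ppt_mem m 0 0)
      (ppt_mem m 1 0) (ppt_ne_infty m 0 0).symm (ppt_one_ne m).symm (ppt_ne_infty m 1 0).symm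
    · rw [mul_smul, h1, inv_smul_smul]
    · rw [mul_smul, h2, inv_smul_smul]
    · rw [mul_smul, h2, inv_smul_smul]
  exact (inv_mul_eq_one.1 key).symm

theorem T_mul [Finite F] (hG : Good F m) (hex : ∃ t : F, t ≠ 0 ∧ t ≠ 1) (a b c d : F) :
    T m a b * T m c d = T m (a + c) (b + d + sg m a * c) := by
  apply eq_of_smul_eq hG hex (mul_mem (T_mem hG _ _) (T_mem hG _ _)) (T_mem hG _ _)
  · rw [mul_smul, T_infty, T_infty, T_infty]
  · intro x y
    rw [mul_smul, T_ppt hG, T_ppt hG, T_ppt hG, hG.sg_add]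
    congr 1 <;> ring

theorem T_zero [Finite F] (hG : Good F m) (hex : ∃ t : F, t ≠ 0 ∧ t ≠ 1) : T m (0 : F) 0 = 1 := by
  apply eq_of_smul_eq hG hex (T_mem hG _ _) (one_mem _)
  · rw [T_infty, one_smul]
  · intro x y
    rw [T_ppt hG, one_smul]
    congr 1 <;> simp

theorem T_inj (hG : Good F m) {a b c d : F} (h : T m a b = T m c d) : a = c ∧ b = d := by
  have h1 := congrArg (· • ppt m (0 : F) 0) h
  simp only [T_from_zero hG] at h1
  exact ppt_inj m h1

theorem hh_T [Finite F] (hG : Good F m) (hex : ∃ t : F, t ≠ 0 ∧ t ≠ 1) (k : Fˣ) (a b : F) :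
    hh m k * T m a b = T m (sg m (k : F) * a) ((k : F) ^ 2 * sg m (k : F) * b) * hh m k := by
  apply eq_of_smul_eq hG hex (mul_mem (hh_mem hG _) (T_mem hG _ _))
    (mul_mem (T_mem hG _ _) (hh_mem hG _))
  · rw [mul_smul, mul_smul, T_infty, hh_infty, T_infty]
  · intro x y
    rw [mul_smul, mul_smul, T_ppt hG, hh_ppt hG, hh_ppt hG, T_ppt hG, sg_mul, hG.sgsg]
    congr 1 <;> ring

theorem two_transitive [Finite F] (hG : Good F m) :
    MulAction.IsMultiplyPretransitive (Cfsg.Sz F m) (Cfsg.suzukiOvoid F m) 2 := by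
  rw [MulAction.is_two_pretransitive_iff]
  intro a b c d hab hcd
  obtain ⟨x, hx, hxa, hxb⟩ := exists_move hG a.2 b.2 (fun h => hab (Subtype.ext h))
  obtain ⟨y, hy, hyc, hyd⟩ := exists_move hG c.2 d.2 (fun h => hcd (Subtype.ext h))
  refine ⟨⟨y, hy⟩⁻¹ * ⟨x, hx⟩, ?_, ?_⟩
  · apply Subtype.ext
    show (y⁻¹ * x) • (a : Projectivization F (Fin 4 → F)) = c
    rw [mul_smul, hxa, ← hyc, inv_smul_smul]
  · apply Subtype.ext
    show (y⁻¹ * x) • (b : Projectivization F (Fin 4 → F)) = d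
    rw [mul_smul, hxb, ← hyd, inv_smul_smul]

theorem faithful [Finite F] (hG : Good F m) (hex : ∃ t : F, t ≠ 0 ∧ t ≠ 1) :
    FaithfulSMul (Cfsg.Sz F m) (Cfsg.suzukiOvoid F m) := by
  constructor
  intro g g' h
  apply Subtype.ext
  apply eq_of_smul_eq hG hex g.2 g'.2
  · exact congrArg Subtype.val (h ⟨_, infty_mem m⟩)
  · intro x y
    exact congrArg Subtype.val (h ⟨_, ppt_mem m x y⟩)

/-- no normal subgroup acts regularly -/
theorem no_regular_normal [Fintype F] (hG : Good F m) (hex : ∃ t : F, t ≠ 0 ∧ t ≠ 1)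
    (hq : ¬ 2 ∣ Fintype.card F ^ 2 + 1) (N : Subgroup (Cfsg.Sz F m)) (hN : N.Normal)
    (htrans : MulAction.IsPretransitive N (Cfsg.suzukiOvoid F m)) :
    ∃ a : Cfsg.suzukiOvoid F m, MulAction.stabilizer N a ≠ ⊥ := by
  by_contra hcon
  push Not at hcon
  have hreg : ∀ (x : SpecialLinearGroup (Fin 4) F) (hx : x ∈ Cfsg.Sz F m), (⟨x, hx⟩ : Cfsg.Sz F m) ∈ N →
      x • Cfsg.suzukiPointInfinity F = Cfsg.suzukiPointInfinity F → x = 1 := by
    intro x hx hxN hfix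
    have h1 : (⟨⟨x, hx⟩, hxN⟩ : N) ∈ MulAction.stabilizer N
        (⟨_, infty_mem m⟩ : Cfsg.suzukiOvoid F m) := by
      rw [MulAction.mem_stabilizer_iff]
      exact Subtype.ext hfix
    rw [hcon, Subgroup.mem_bot] at h1
    exact congrArg (fun z : N => ((z : Cfsg.Sz F m) : SpecialLinearGroup (Fin 4) F)) h1
  obtain ⟨n, hn⟩ := htrans.exists_smul_eq (⟨_, infty_mem m⟩ : Cfsg.suzukiOvoid F m)
    ⟨_, ppt_mem m 0 0⟩
  obtain ⟨⟨n₀, hn₀⟩, hn₀N⟩ := n
  have hn' : n₀ • Cfsg.suzukiPointInfinity F = ppt m 0 0 := congrArg Subtype.val hn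
  obtain ⟨t, ht0, ht1⟩ := id hex
  have hk1 : Units.mk0 t ht0 ≠ 1 := fun h => ht1 (congrArg Units.val h)
  set k := Units.mk0 t ht0 with hk
  -- `n₀` commutes with the torus element
  have hcN : (⟨hh m k * n₀ * (hh m k)⁻¹, mul_mem (mul_mem (hh_mem hG k) hn₀) (inv_mem (hh_mem hG k))⟩ :
      Cfsg.Sz F m) ∈ N := hN.conj_mem ⟨n₀, hn₀⟩ hn₀N ⟨hh m k, hh_mem hG k⟩
  have hinv : (hh m k)⁻¹ • Cfsg.suzukiPointInfinity F = Cfsg.suzukiPointInfinity F := by
    rw [inv_smul_eq_iff, hh_infty]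
  have hcomm : n₀⁻¹ * (hh m k * n₀ * (hh m k)⁻¹) = 1 := by
    apply hreg _ (mul_mem (inv_mem hn₀) (mul_mem (mul_mem (hh_mem hG k) hn₀) (inv_mem (hh_mem hG k))))
      (N.mul_mem (N.inv_mem hn₀N) hcN)
    rw [mul_smul, mul_smul, mul_smul, hinv, hn', hh_zero hG, inv_smul_eq_iff, hn']
  have hcomm' : hh m k * n₀ = n₀ * hh m k := by
    have h1 : hh m k * n₀ * (hh m k)⁻¹ = n₀ := (inv_mul_eq_one.1 hcomm).symm
    exact mul_inv_eq_iff_eq_mul.1 h1
  have hfixR : hh m k • (n₀ • ppt m (0 : F) 0) = n₀ • ppt m 0 0 := by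
    rw [← mul_smul, hcomm', mul_smul, hh_zero hG]
  have hR0 : n₀ • ppt m (0 : F) 0 ≠ ppt m 0 0 := by
    intro h
    exact ppt_ne_infty m 0 0 (smul_left_cancel n₀ (h.trans hn'.symm))
  have hRinf : n₀ • ppt m (0 : F) 0 = Cfsg.suzukiPointInfinity F := by
    by_contra hne
    have h1 := three_fixed hG hex (hh_mem hG k) (infty_mem m) (ppt_mem m 0 0)
      (smul_mem_ovoid hn₀ (ppt_mem m 0 0)) (ppt_ne_infty m 0 0).symm hR0.symm (Ne.symm hne)
      (hh_infty m k) (hh_zero hG k) hfixR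
    rw [← hh_one m] at h1
    exact hk1 (hh_inj m h1)
  have hsq : n₀ * n₀ = 1 := by
    apply hreg _ (mul_mem hn₀ hn₀) (N.mul_mem hn₀N hn₀N)
    rw [mul_smul, hn', hRinf]
  have hne1 : n₀ ≠ 1 := by
    rintro rfl
    rw [one_smul] at hn'
    exact ppt_ne_infty m 0 0 hn'.symm
  have hord : orderOf (⟨⟨n₀, hn₀⟩, hn₀N⟩ : N) = 2 := by
    apply orderOf_eq_prime
    · rw [sq]
      apply Subtype.ext
      apply Subtype.ext
      exact hsq
    · intro h
      exact hne1 (congrArg (fun z : N => ((z : Cfsg.Sz F m) : SpecialLinearGroup (Fin 4) F)) h)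
  have hcard : Nat.card N = Fintype.card F ^ 2 + 1 := by
    have h1 := MulAction.index_stabilizer_of_transitive N
      (⟨_, infty_mem m⟩ : Cfsg.suzukiOvoid F m)
    rw [hcon, Subgroup.index_bot, card_ovoid] at h1
    exact h1
  apply hq
  rw [← hcard, ← hord]
  exact orderOf_dvd_natCard _

theorem zassenhaus [Fintype F] (hG : Good F m) (hex : ∃ t : F, t ≠ 0 ∧ t ≠ 1)
    (hq : ¬ 2 ∣ Fintype.card F ^ 2 + 1) :
    Cfsg.IsZassenhausGroup (Cfsg.Sz F m) (Cfsg.suzukiOvoid F m) := by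
  refine ⟨faithful hG hex, two_transitive hG, ?_, ?_, ?_⟩
  · intro g a b c hab hbc hac h1 h2 h3
    apply Subtype.ext
    exact three_fixed hG hex g.2 a.2 b.2 c.2 (fun h => hab (Subtype.ext h))
      (fun h => hbc (Subtype.ext h)) (fun h => hac (Subtype.ext h))
      (congrArg Subtype.val h1) (congrArg Subtype.val h2) (congrArg Subtype.val h3)
  · obtain ⟨t, ht0, ht1⟩ := id hex
    refine ⟨⟨hh m (Units.mk0 t ht0), hh_mem hG _⟩, ?_, ⟨_, infty_mem m⟩, ⟨_, ppt_mem m 0 0⟩, ?_, ?_, ?_⟩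
    · intro h
      have h1 : hh m (Units.mk0 t ht0) = 1 := congrArg Subtype.val h
      rw [← hh_one m] at h1
      exact ht1 (congrArg Units.val (hh_inj m h1))
    · intro h
      exact ppt_ne_infty m 0 0 (congrArg Subtype.val h).symm
    · exact Subtype.ext (hh_infty m _)
    · exact Subtype.ext (hh_zero hG _)
  · intro N hN htrans
    exact no_regular_normal hG hex hq N hN htrans

end Cfsg.Agent.Lib.Helper29.Sz
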